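import Mathlib.GroupTheory.GroupAction.Quotient
import Mathlib.GroupTheory.SpecificGroups.Cyclic
import Mathlib.GroupTheory.Perm.Cycle.Type
import Mathlib.Tactic

/-!
Groups of odd order acting on an elementary abelian group of order eight.
-/

set_option autoImplicit false

namespace CfsgLib.Involution.ElementaryEight

variable {V : Type*} [Group V] [Finite V] (h8 : Nat.card V = 8) (hsq : ∀ v : V, v * v = 1)

include hsq in
omit [Finite V] in
theorem comm (v w : V) : v * w = w * v := by
  have hv : ∀ u : V, u⁻¹ = u := fun u => inv_eq_of_mul_eq_one_right (hsq u)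
  calc v * w = (v * w)⁻¹ := (hv _).symm
    _ = w⁻¹ * v⁻¹ := mul_inv_rev v w
    _ = w * v := by rw [hv, hv]

include h8 hsq in
/-- An automorphism of odd order fixing two different involutions is trivial. -/
theorem eq_one_of_fix {α : MulAut V} (hα : Odd (orderOf α)) {x y : V} (hx : x ≠ 1) (hy : y ≠ 1)
    (hxy : x ≠ y) (hfx : α x = x) (hfy : α y = y) : α = 1 := by
  set F : Subgroup V := MonoidHom.eqLocus α.toMonoidHom (MonoidHom.id V)
  have hF : ∀ {v : V}, α v = v → v ∈ F := fun h => h
  have h4 : 4 ≤ Nat.card F := by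
    let e : Fin 4 → F := ![1, ⟨x, hF hfx⟩, ⟨y, hF hfy⟩, ⟨x, hF hfx⟩ * ⟨y, hF hfy⟩]
    have he : Function.Injective e := by
      intro i j hij
      have h := congrArg Subtype.val hij
      have h1 : x * y ≠ 1 := fun h' => hxy ((eq_inv_of_mul_eq_one_left h').trans
        (inv_eq_of_mul_eq_one_right (hsq y)))
      have h2 : x * y ≠ x := fun h' => hy (by simpa using h')
      have h3 : x * y ≠ y := fun h' => hx (by simpa using h')
      fin_cases i <;> fin_cases j <;>
        simp [e, hx, hy, hxy, hxy.symm, hx.symm, hy.symm, h1, h2, h3, h1.symm, h2.symm, h3.symm] at h ⊢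
    simpa using Nat.card_le_card_of_injective e he
  have hdvd : Nat.card F ∣ 8 := h8 ▸ F.card_subgroup_dvd_card
  obtain ⟨k, hk, hFk⟩ := (Nat.dvd_prime_pow Nat.prime_two).1 (show Nat.card F ∣ 2 ^ 3 from hdvd)
  have hidx : F.index ∣ 2 := by
    have h := F.card_mul_index
    rw [h8, hFk] at h
    have : F.index = 1 ∨ F.index = 2 := by interval_cases k <;> omega
    rcases this with e | e <;> rw [e]; norm_num
  have h2 : α * α = 1 := by
    ext v
    show α (α v) = v
    by_cases hv : v ∈ F
    · rw [show α v = v from hv, show α v = v from hv]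
    · have hne : F.index ≠ 1 := fun h => hv (by rw [Subgroup.index_eq_one.1 h]; trivial)
      have hi : F.index = 2 := ((Nat.dvd_prime Nat.prime_two).1 hidx).resolve_left hne
      have hαv : α v ∉ F := fun h => hv (by
        have h' : α (α v) = α v := h
        have := α.injective h'
        exact hF this)
      have hm : v * α v ∈ F := (Subgroup.mul_mem_iff_of_index_two hi).2 (by simp [hv, hαv])
      have h' : α (v * α v) = v * α v := hm
      rw [map_mul, comm hsq v] at h'
      exact mul_left_cancel h'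
  have h3 : orderOf α ∣ 2 := orderOf_dvd_of_pow_eq_one (by rw [sq, h2])
  rw [← orderOf_eq_one_iff]
  rcases (Nat.dvd_prime Nat.prime_two).1 h3 with h | h
  · exact h
  · rw [h] at hα; norm_num at hα

variable {K : Type*} [Group K] [Finite K] (φ : K →* MulAut V) (hφ : Function.Injective φ)
  (hK : Odd (Nat.card K))

include h8 hsq hφ hK in
theorem eq_one_of_fix' {k : K} {x y : V} (hx : x ≠ 1) (hy : y ≠ 1)
    (hxy : x ≠ y) (hfx : φ k x = x) (hfy : φ k y = y) : k = 1 :=
  hφ (by
    rw [map_one]
    exact eq_one_of_fix h8 hsq (Odd.of_dvd_nat hK ((orderOf_map_dvd φ k).trans (orderOf_dvd_natCard k)))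
      hx hy hxy hfx hfy)

include h8 hsq hφ hK in
/-- An odd order group fixing an involution has order dividing three. -/
theorem card_dvd_three {x : V} (hx : x ≠ 1) (hfix : ∀ k : K, φ k x = x) : Nat.card K ∣ 3 := by
  classical
  haveI := Fintype.ofFinite V
  letI : MulAction K {v : V // v ≠ 1 ∧ v ≠ x} :=
    { smul := fun k v => ⟨φ k v.1, fun h => v.2.1 (by simpa using h),
        fun h => v.2.2 ((φ k).injective (h.trans (hfix k).symm))⟩
      one_smul := fun v => Subtype.ext (by show φ 1 v.1 = v.1; simp)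
      mul_smul := fun a b v => Subtype.ext (by show φ (a * b) v.1 = φ a (φ b v.1); simp) }
  have hfree : ∀ v : {v : V // v ≠ 1 ∧ v ≠ x}, MulAction.stabilizer K v = ⊥ := by
    intro v
    rw [eq_bot_iff]
    intro k hk
    have hk' : φ k v.1 = v.1 := congrArg Subtype.val hk
    exact eq_one_of_fix' h8 hsq φ hφ hK hx v.2.1 (Ne.symm v.2.2) (hfix k) hk'
  have e := MulAction.selfEquivSigmaOrbitsQuotientStabilizer K {v : V // v ≠ 1 ∧ v ≠ x}
  haveI := Fintype.ofFinite (Quotient (MulAction.orbitRel K {v : V // v ≠ 1 ∧ v ≠ x}))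
  have hcard := Nat.card_congr e
  rw [Nat.card_sigma] at hcard
  simp only [hfree, ← Subgroup.index_eq_card, Subgroup.index_bot, Finset.sum_const, smul_eq_mul] at hcard
  have h6 : Nat.card {v : V // v ≠ 1 ∧ v ≠ x} = 6 := by
    rw [Nat.card_eq_fintype_card, Fintype.card_subtype,
      show (Finset.univ.filter fun v : V => v ≠ 1 ∧ v ≠ x) = ({1, x} : Finset V)ᶜ from by ext; simp,
      Finset.card_compl, Finset.card_pair (Ne.symm hx), ← Nat.card_eq_fintype_card, h8]
  rw [h6] at hcard
  have hd : Nat.card K ∣ 2 * 3 := ⟨_, hcard.trans (mul_comm _ _)⟩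
  exact (Nat.Coprime.dvd_of_dvd_mul_left (Nat.coprime_two_right.2 hK) hd)

include h8 hsq hφ hK in
/-- Without a common fixed involution an odd order group is transitive on the involutions. -/
theorem transitive (hnofix : ∀ v : V, v ≠ 1 → ∃ k : K, φ k v ≠ v) (x : V) (hx : x ≠ 1) :
    (∀ v : V, v ≠ 1 → ∃ k : K, φ k x = v) ∧
      ∃ H : Subgroup K, (∀ k, k ∈ H ↔ φ k x = x) ∧ Nat.card K = 7 * Nat.card H := by
  classical
  haveI := Fintype.ofFinite V
  letI : MulAction K {v : V // v ≠ 1} :=
    { smul := fun k v => ⟨φ k v.1, fun h => v.2 (by simpa using h)⟩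
      one_smul := fun v => Subtype.ext (by show φ 1 v.1 = v.1; simp)
      mul_smul := fun a b v => Subtype.ext (by show φ (a * b) v.1 = φ a (φ b v.1); simp) }
  let x' : {v : V // v ≠ 1} := ⟨x, hx⟩
  have hodd : ∀ v : {v : V // v ≠ 1}, Odd (Nat.card (MulAction.orbit K v)) := fun v => by
    refine Odd.of_dvd_nat hK ?_
    rw [Nat.card_congr (MulAction.orbitEquivQuotientStabilizer K v), ← Subgroup.index_eq_card]
    exact Subgroup.index_dvd_card _
  have hge : ∀ v : {v : V // v ≠ 1}, 3 ≤ Nat.card (MulAction.orbit K v) := fun v => by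
    by_contra hlt
    obtain ⟨k, hk⟩ := hnofix v.1 v.2
    have h1 : Nat.card (MulAction.orbit K v) = 1 := by
      obtain ⟨m, hm⟩ := hodd v
      omega
    haveI := (Nat.card_eq_one_iff_unique.1 h1).1
    have := Subsingleton.elim (⟨v, MulAction.mem_orbit_self v⟩ : MulAction.orbit K v)
      ⟨k • v, MulAction.mem_orbit v k⟩
    exact hk (congrArg (fun w : MulAction.orbit K v => w.1.1) this).symm
  have h7 : Nat.card {v : V // v ≠ 1} = 7 := by
    rw [Nat.card_eq_fintype_card, Fintype.card_subtype_compl, ← Nat.card_eq_fintype_card, h8]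
    simp
  haveI := Fintype.ofFinite (MulAction.orbitRel.Quotient K {v : V // v ≠ 1})
  have hsum := Nat.card_congr (MulAction.selfEquivSigmaOrbits K {v : V // v ≠ 1})
  rw [Nat.card_sigma, h7] at hsum
  have hone : ∀ ω ω' : MulAction.orbitRel.Quotient K {v : V // v ≠ 1}, ω = ω' := by
    intro ω ω'
    by_contra hne
    set f := fun ω : MulAction.orbitRel.Quotient K {v : V // v ≠ 1} =>
      Nat.card (MulAction.orbit K ω.out)
    have hs : ∑ ω, f ω = 7 := by convert hsum.symm
    have h2 : ∑ i ∈ ({ω, ω'} : Finset _), f i = f ω + f ω' := Finset.sum_pair hne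
    have hrest : ∀ i, 3 ≤ f i ∧ f i % 2 = 1 := fun i => ⟨hge _, Nat.odd_iff.1 (hodd i.out)⟩
    have hsplit := Finset.sum_sdiff (f := f) (Finset.subset_univ ({ω, ω'} : Finset _))
    rcases Finset.eq_empty_or_nonempty (Finset.univ \ ({ω, ω'} : Finset _)) with he | ⟨i, hi⟩
    · rw [he, Finset.sum_empty] at hsplit
      have := hrest ω
      have := hrest ω'
      omega
    · have := Finset.single_le_sum (f := f) (fun j _ => Nat.zero_le _) hi
      have := hrest ω
      have := hrest ω'
      have := hrest i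
      omega
  have hall : ∀ v : {v : V // v ≠ 1}, v ∈ MulAction.orbit K x' := fun v => by
    exact Quotient.exact (s := MulAction.orbitRel K _) (hone ⟦v⟧ ⟦x'⟧)
  refine ⟨fun v hv => ?_, MulAction.stabilizer K x', fun k => ?_, ?_⟩
  · obtain ⟨k, hk⟩ := hall ⟨v, hv⟩
    exact ⟨k, congrArg Subtype.val hk⟩
  · exact ⟨fun h => congrArg Subtype.val h, fun h => Subtype.ext h⟩
  · have h := (MulAction.stabilizer K x').index_mul_card
    rw [Subgroup.index_eq_card, ← Nat.card_congr (MulAction.orbitEquivQuotientStabilizer K x'),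
      Nat.card_congr (Equiv.subtypeUnivEquiv hall), h7] at h
    exact h.symm

end CfsgLib.Involution.ElementaryEight
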