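import Mathlib.Tactic
import Mathlib.Algebra.BigOperators.Group.Finset.Piecewise
import Mathlib.Data.Fintype.BigOperators

/-!
Integer solutions of the column equations.
-/

set_option autoImplicit false

namespace CfsgLib.Involution.ElementaryEight

theorem solve (DX DY DZ bX bY bZ aX aY aZ : ℤ) (hX : 2 ≤ DX) (hY : 2 ≤ DY) (hZ : 2 ≤ DZ)
    (hbX : bX = 1 ∨ bX = -1) (hbY : bY = 1 ∨ bY = -1) (hbZ : bZ = 1 ∨ bZ = -1)
    (hnorm : 1 + aZ * aZ + 2 * (aX * aX) + 2 * (aY * aY) ≤ 4)
    (hinner : 1 + aX * bX + aY * bY + aZ * bZ = 2)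
    (hdeg : 1 + bX * DX + bY * DY + bZ * DZ = 0)
    (hsq : (1 : ℚ) + bX * (3 * aX - bX : ℤ) ^ 2 / DX + bY * (3 * aY - bY : ℤ) ^ 2 / DY +
      bZ * (3 * aZ - 2 * bZ : ℤ) ^ 2 / DZ = 0)
    (hmX : ∃ m : ℕ, DX + 7 * (3 * aX - bX) = 8 * m) (hmY : ∃ m : ℕ, DY + 7 * (3 * aY - bY) = 8 * m)
    (hmZ : ∃ m : ℕ, DZ + 7 * (3 * aZ - 2 * bZ) = 8 * m) : False := by
  have key : ∀ DX DY DZ bX bY bZ aZ : ℤ, 2 ≤ DX → 2 ≤ DY → 2 ≤ DZ → (bX = 1 ∨ bX = -1) →
      (bY = 1 ∨ bY = -1) → (bZ = 1 ∨ bZ = -1) → aZ = 0 → 1 + bX * DX + bY * DY + bZ * DZ = 0 →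
      (1 : ℚ) + bX * (3 * bX - bX : ℤ) ^ 2 / DX + bY * (3 * 0 - bY : ℤ) ^ 2 / DY +
        bZ * (3 * aZ - 2 * bZ : ℤ) ^ 2 / DZ = 0 →
      (∃ m : ℕ, DX + 7 * (3 * bX - bX) = 8 * m) →
      (∃ m : ℕ, DZ + 7 * (3 * aZ - 2 * bZ) = 8 * m) → False := by
    intro DX DY DZ bX bY bZ aZ hX hY hZ hbX hbY hbZ ha hd hs ⟨mX, hmX⟩ ⟨mZ, hmZ⟩
    subst ha
    have hXne : (DX : ℚ) ≠ 0 := by norm_cast; omega
    have hYne : (DY : ℚ) ≠ 0 := by norm_cast; omega
    have hZne : (DZ : ℚ) ≠ 0 := by norm_cast; omega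
    have e : (bY * DY + 1) * ((bX * DX + 4) * (bZ * DZ + 4) - 12) = 0 := by
      push_cast at hs
      field_simp at hs
      have hs' : DX * DY * DZ + bX * (3 * bX - bX) ^ 2 * DY * DZ + bY * bY ^ 2 * DX * DZ +
          bZ * (2 * bZ) ^ 2 * DX * DY = 0 := by
        rw [← @Int.cast_inj ℚ]; push_cast; linear_combination hs
      rcases hbX with rfl | rfl <;> rcases hbY with rfl | rfl <;> rcases hbZ with rfl | rfl <;>
        first
          | linear_combination hs' + 4 * hd
          | linear_combination -hs' + 4 * hd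
          | linear_combination hs' - 4 * hd
          | linear_combination -hs' - 4 * hd
          | nlinarith [hs', hd]
    rcases mul_eq_zero.1 e with h | h
    · rcases hbY with rfl | rfl <;> omega
    · have hP : (bX * DX + 4) * (bZ * DZ + 4) = 12 := by omega
      have hdvd : bX * DX + 4 ∣ 12 := ⟨_, hP.symm⟩
      have hle := Int.le_of_dvd (by norm_num) hdvd
      have hle' := Int.le_of_dvd (by norm_num) (Int.neg_dvd.2 hdvd)
      obtain ⟨P, hPdef⟩ : ∃ P, P = bX * DX + 4 := ⟨_, rfl⟩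
      obtain ⟨R, hRdef⟩ : ∃ R, R = bZ * DZ + 4 := ⟨_, rfl⟩
      rw [← hPdef, ← hRdef] at hP
      rw [← hPdef] at hle hle'
      have hP1 : -12 ≤ P := by linarith
      interval_cases P <;>
        first
          | omega
          | (rcases hbX with rfl | rfl <;> rcases hbY with rfl | rfl <;> rcases hbZ with rfl | rfl <;> omega)
  have hsq2 : ∀ x : ℤ, x ≠ 0 → 1 ≤ x * x := fun x hx => mul_self_pos.2 hx
  by_cases hax : aX = 0
  · by_cases hay : aY = 0
    · subst hax hay
      have haz : aZ = bZ := by rcases hbZ with rfl | rfl <;> omega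
      subst haz
      have hXne : (DX : ℚ) ≠ 0 := by norm_cast; omega
      have hYne : (DY : ℚ) ≠ 0 := by norm_cast; omega
      have hZne : (DZ : ℚ) ≠ 0 := by norm_cast; omega
      push_cast at hsq
      field_simp at hsq
      have hs' : DX * DY * DZ + bX * bX ^ 2 * DY * DZ + bY * bY ^ 2 * DX * DZ +
          aZ * (3 * aZ - 2 * aZ) ^ 2 * DX * DY = 0 := by
        rw [← @Int.cast_inj ℚ]; push_cast; linear_combination hsq
      have e : (bX * DX + 1) * (bY * DY + 1) * (aZ * DZ + 1) = 0 := by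
        rcases hbX with rfl | rfl <;> rcases hbY with rfl | rfl <;> rcases hbZ with rfl | rfl <;>
          first
            | linear_combination hs' + hdeg
            | linear_combination -hs' + hdeg
      rcases mul_eq_zero.1 e with h | h
      · rcases mul_eq_zero.1 h with h | h
        · rcases hbX with rfl | rfl <;> omega
        · rcases hbY with rfl | rfl <;> omega
      · rcases hbZ with rfl | rfl <;> omega
    · have h1 := hsq2 _ hay
      subst hax
      have haz : aZ = 0 ∧ aY = bY := by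
        have : -1 ≤ aY ∧ aY ≤ 1 ∧ -1 ≤ aZ ∧ aZ ≤ 1 := by
          refine ⟨?_, ?_, ?_, ?_⟩ <;> nlinarith
        obtain ⟨u, v, u', v'⟩ := this
        rcases hbY with rfl | rfl <;> rcases hbZ with rfl | rfl <;> omega
      obtain ⟨haz, rfl⟩ := haz
      exact key DY DX DZ aY bX bZ aZ hY hX hZ hbY hbX hbZ haz (by linarith)
        (by linear_combination hsq) hmY hmZ
  · have h1 := hsq2 _ hax
    have hay : aY = 0 := by
      by_contra h
      nlinarith [hsq2 _ h, mul_self_nonneg aZ]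
    subst hay
    have haz : aZ = 0 ∧ aX = bX := by
      have : -1 ≤ aX ∧ aX ≤ 1 ∧ -1 ≤ aZ ∧ aZ ≤ 1 := by
        refine ⟨?_, ?_, ?_, ?_⟩ <;> nlinarith
      obtain ⟨u, v, u', v'⟩ := this
      rcases hbX with rfl | rfl <;> rcases hbZ with rfl | rfl <;> omega
    obtain ⟨haz, rfl⟩ := haz
    exact key DX DY DZ aX bY bZ aZ hX hY hZ hbX hbY hbZ haz hdeg hsq hmX hmZ

theorem no_columns {ι : Type*} [Fintype ι] (τ : ι → ι) (hτ : Function.Involutive τ) (o : ι)
    (hτo : τ o = o) (D a b T : ι → ℤ) (hao : a o = 1) (hbo : b o = 1) (hDo : D o = 1)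
    (hTo : T o = 1) (haa : ∑ x, a x * a x = 4) (hbb : ∑ x, b x * b x = 4)
    (hab : ∑ x, a x * b x = 2) (hbτ : ∑ x, b x * b (τ x) = 2) (haτ : ∀ x, a (τ x) = a x)
    (hT : ∀ x, b x ≠ 0 → T x = 3 * a x - b x - b (τ x)) (hD : ∀ x, x ≠ o → 2 ≤ D x)
    (hdeg : ∑ x, b x * D x = 0) (hsq : ∑ x, (b x : ℚ) * (T x : ℚ) ^ 2 / (D x : ℚ) = 0)
    (hm : ∀ x, b x ≠ 0 → ∃ m : ℕ, D x + 7 * T x = 8 * m) : False := by
  classical
  set U := Finset.univ.filter fun x => x ≠ o ∧ b x ≠ 0
  have hsplit : ∀ f : ι → ℤ, (∀ x, b x = 0 → f x = 0) → ∑ x, f x = f o + ∑ x ∈ U, f x := by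
    intro f hf
    rw [← Finset.add_sum_erase _ _ (Finset.mem_univ o)]
    refine congrArg (f o + ·) (Finset.sum_subset ?_ ?_).symm
    · intro x hx; simpa using (Finset.mem_filter.1 hx).2.1
    · intro x hx hxU
      refine hf x ?_
      by_contra h
      exact hxU (Finset.mem_filter.2 ⟨Finset.mem_univ _, Finset.ne_of_mem_erase hx, h⟩)
  have hsplitQ : ∀ f : ι → ℚ, (∀ x, b x = 0 → f x = 0) → ∑ x, f x = f o + ∑ x ∈ U, f x := by
    intro f hf
    rw [← Finset.add_sum_erase _ _ (Finset.mem_univ o)]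
    refine congrArg (f o + ·) (Finset.sum_subset ?_ ?_).symm
    · intro x hx; simpa using (Finset.mem_filter.1 hx).2.1
    · intro x hx hxU
      refine hf x ?_
      by_contra h
      exact hxU (Finset.mem_filter.2 ⟨Finset.mem_univ _, Finset.ne_of_mem_erase hx, h⟩)
  have hbval : ∀ x ∈ U, b x = 1 ∨ b x = -1 := fun x hx => by
    obtain ⟨hxo, hx0⟩ := (Finset.mem_filter.1 hx).2
    have h := hsplit (fun x => b x * b x) (fun x h => by simp [h])
    rw [hbb, hbo] at h
    have h1 := Finset.single_le_sum (f := fun x => b x * b x) (fun y _ => mul_self_nonneg _) hx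
    have : -1 ≤ b x ∧ b x ≤ 1 := ⟨by nlinarith, by nlinarith⟩
    omega
  have hU : U.card = 3 := by
    have h := hsplit (fun x => b x * b x) (fun x h => by simp [h])
    rw [hbb, hbo, Finset.sum_congr rfl (g := fun _ => (1 : ℤ)) fun x hx => by
      rcases hbval x hx with e | e <;> rw [e] <;> norm_num, Finset.sum_const, nsmul_eq_mul, mul_one,
      mul_one] at h
    push_cast at h
    omega
  have hb1 : ∑ x ∈ U, b x * b (τ x) = 1 := by
    have h := hsplit (fun x => b x * b (τ x)) (fun x h => by simp [h])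
    rw [hbτ, hτo, hbo] at h
    linarith
  have hτU : ∀ x ∈ U, b (τ x) ≠ 0 → τ x ∈ U := fun x hx h =>
    Finset.mem_filter.2 ⟨Finset.mem_univ _, fun e => (Finset.mem_filter.1 hx).2.1
      (by rw [← hτ x, e, hτo]), h⟩
  obtain ⟨x, y, z, hxy, hxz, hyz, hUe⟩ := Finset.card_eq_three.1 hU
  have hmem : x ∈ U ∧ y ∈ U ∧ z ∈ U := by rw [hUe]; simp
  have hcl : ∀ w ∈ U, b (τ w) ≠ 0 → τ w = x ∨ τ w = y ∨ τ w = z := fun w hw h => by
    simpa [hUe] using hτU w hw h
  rw [hUe, Finset.sum_insert (by simp [hxy, hxz]), Finset.sum_insert (by simp [hyz]),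
    Finset.sum_singleton] at hb1
  have main : ∀ X Y Z, X ≠ Y → X ≠ Z → Y ≠ Z → U = {X, Y, Z} → τ Z = Z → b (τ X) = 0 →
      b (τ Y) = 0 → False := by
    intro X Y Z hXY hXZ hYZ he hZfix hX0 hY0
    have hX : X ∈ U ∧ Y ∈ U ∧ Z ∈ U := by rw [he]; simp
    obtain ⟨hX, hY, hZ⟩ := hX
    have hne : ∀ {w}, w ∈ U → w ≠ o ∧ b w ≠ 0 := fun hw => (Finset.mem_filter.1 hw).2
    have hsum : ∀ f : ι → ℤ, ∑ w ∈ U, f w = f X + f Y + f Z := fun f => by
      rw [he, Finset.sum_insert (by simp [hXY, hXZ]), Finset.sum_insert (by simp [hYZ]),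
        Finset.sum_singleton, add_assoc]
    refine solve (D X) (D Y) (D Z) (b X) (b Y) (b Z) (a X) (a Y) (a Z) (hD X (hne hX).1)
      (hD Y (hne hY).1) (hD Z (hne hZ).1) (hbval X hX) (hbval Y hY) (hbval Z hZ) ?_ ?_ ?_ ?_ ?_ ?_ ?_
    · rw [← haa]
      have hXτ : τ X ≠ X := fun e => (hne hX).2 (e ▸ hX0)
      have hYτ : τ Y ≠ Y := fun e => (hne hY).2 (e ▸ hY0)
      have n1 : τ X ≠ o := fun e => (hne hX).1 (by rw [← hτ X, e, hτo])
      have n2 : τ Y ≠ o := fun e => (hne hY).1 (by rw [← hτ Y, e, hτo])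
      have n3 : τ X ≠ Y := fun e => (hne hY).2 (e ▸ hX0)
      have n4 : τ X ≠ Z := fun e => (hne hZ).2 (e ▸ hX0)
      have n5 : τ Y ≠ X := fun e => (hne hX).2 (e ▸ hY0)
      have n6 : τ Y ≠ Z := fun e => (hne hZ).2 (e ▸ hY0)
      have n7 : τ X ≠ τ Y := fun e => hXY (hτ.injective e)
      refine le_trans (le_of_eq ?_) (Finset.sum_le_sum_of_subset_of_nonneg
        (Finset.subset_univ ({o, X, Y, Z, τ X, τ Y} : Finset ι)) fun w _ _ => mul_self_nonneg (a w))
      rw [Finset.sum_insert (by simp [(hne hX).1.symm, (hne hY).1.symm, (hne hZ).1.symm, n1.symm, n2.symm]),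
        Finset.sum_insert (by simp [hXY, hXZ, hXτ.symm, n5.symm]),
        Finset.sum_insert (by simp [hYZ, hYτ.symm, n3.symm]),
        Finset.sum_insert (by simp [n4.symm, n6.symm]), Finset.sum_insert (by simp [n7]),
        Finset.sum_singleton, haτ, haτ, hao]
      ring
    · have h := hsplit (fun w => a w * b w) (fun w h => by simp [h])
      rw [hab, hao, hbo, hsum] at h
      linarith
    · have h := hsplit (fun w => b w * D w) (fun w h => by simp [h])
      rw [hdeg, hbo, hDo, hsum] at h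
      linarith
    · have h := hsplitQ (fun w => (b w : ℚ) * (T w : ℚ) ^ 2 / (D w : ℚ)) (fun w h => by simp [h])
      have h3 : ∀ f : ι → ℚ, ∑ w ∈ U, f w = f X + f Y + f Z := fun f => by
        rw [he, Finset.sum_insert (by simp [hXY, hXZ]), Finset.sum_insert (by simp [hYZ]),
          Finset.sum_singleton, add_assoc]
      rw [hsq, h3, hbo, hDo, hTo, hT X (hne hX).2, hT Y (hne hY).2, hT Z (hne hZ).2, hX0, hY0, hZfix] at h
      push_cast at h ⊢
      linear_combination -h
    · simpa [hT X (hne hX).2, hX0] using hm X (hne hX).2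
    · simpa [hT Y (hne hY).2, hY0] using hm Y (hne hY).2
    · obtain ⟨m, hmZ⟩ := hm Z (hne hZ).2
      rw [hT Z (hne hZ).2, hZfix] at hmZ
      exact ⟨m, by linarith⟩
  obtain ⟨hx, hy, hz⟩ := hmem
  have hx' := hcl x hx
  have hy' := hcl y hy
  have hz' := hcl z hz
  have vx := hbval x hx
  have vy := hbval y hy
  have vz := hbval z hz
  have cyc1 : U = {y, z, x} := by rw [hUe, Finset.insert_comm x y, Finset.pair_comm x z]
  have cyc2 : U = {x, z, y} := by rw [hUe, Finset.pair_comm y z]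
  by_cases ex : b (τ x) = 0 <;> by_cases ey : b (τ y) = 0 <;> by_cases ez : b (τ z) = 0
  all_goals try rw [ex] at hb1
  all_goals try rw [ey] at hb1
  all_goals try rw [ez] at hb1
  · simp at hb1
  · refine main x y z hxy hxz hyz hUe ?_ ex ey
    rcases hz' ez with e | e | e
    · exact absurd (show b (τ x) = b z by rw [← e, hτ]) (by rw [ex]; rcases vz with h | h <;> omega)
    · exact absurd (show b (τ y) = b z by rw [← e, hτ]) (by rw [ey]; rcases vz with h | h <;> omega)
    · exact e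
  · refine main x z y hxz hxy hyz.symm cyc2 ?_ ex ez
    rcases hy' ey with e | e | e
    · exact absurd (show b (τ x) = b y by rw [← e, hτ]) (by rw [ex]; rcases vy with h | h <;> omega)
    · exact e
    · exact absurd (show b (τ z) = b y by rw [← e, hτ]) (by rw [ez]; rcases vy with h | h <;> omega)
  · rcases hy' ey with e | e | e <;> rcases hz' ez with e' | e' | e' <;> rw [e, e'] at hb1 <;>
      rcases vx with h | h <;> rcases vy with h' | h' <;> rcases vz with h'' | h'' <;>
      simp [h, h', h''] at hb1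
  · refine main y z x hyz hxy.symm hxz.symm cyc1 ?_ ey ez
    rcases hx' ex with e | e | e
    · exact e
    · exact absurd (show b (τ y) = b x by rw [← e, hτ]) (by rw [ey]; rcases vx with h | h <;> omega)
    · exact absurd (show b (τ z) = b x by rw [← e, hτ]) (by rw [ez]; rcases vx with h | h <;> omega)
  · rcases hx' ex with e | e | e <;> rcases hz' ez with e' | e' | e' <;> rw [e, e'] at hb1 <;>
      rcases vx with h | h <;> rcases vy with h' | h' <;> rcases vz with h'' | h'' <;>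
      simp [h, h', h''] at hb1
  · rcases hx' ex with e | e | e <;> rcases hy' ey with e' | e' | e' <;> rw [e, e'] at hb1 <;>
      rcases vx with h | h <;> rcases vy with h' | h' <;> rcases vz with h'' | h'' <;>
      simp [h, h', h''] at hb1
  · rcases hx' ex with e | e | e <;> rcases hy' ey with e' | e' | e' <;> rcases hz' ez with e'' | e'' | e'' <;>
      first
        | exact hxy (hτ.injective (e.trans e'.symm))
        | exact hxz (hτ.injective (e.trans e''.symm))
        | exact hyz (hτ.injective (e'.trans e''.symm))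
        | exact hxz ((by have h0 := hτ x; rw [e, e'] at h0; exact h0) : z = x).symm
        | exact hxy ((by have h0 := hτ x; rw [e, e''] at h0; exact h0) : y = x).symm
        | (rw [e, e', e''] at hb1
           rcases vx with h | h <;> rcases vy with h' | h' <;> rcases vz with h'' | h'' <;>
             simp [h, h', h''] at hb1)

end CfsgLib.Involution.ElementaryEight
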