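import Cfsg.Agent.Lib.Involution.ElementaryEight.Quotient
import Cfsg.Agent.Lib.Involution.ElementaryEight.Arith
import Cfsg.Agent.Lib.BrauerSuzuki.PrincipalSection
import Cfsg.Agent.Lib.BrauerSuzuki.Basic
import Cfsg.Agent.Lib.Blocks.InvolutionColumns
import Cfsg.Agent.Lib.Blocks.PrincipalPrimeDegree
import Cfsg.Agent.Lib.Char.Quotient
import Cfsg.Agent.Lib.Char.Perm

/-!
The section of an involution whose centraliser modulo its odd core is `2 × A₄`.
-/

set_option autoImplicit false

open scoped Classical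

namespace CfsgLib.Involution.ElementaryEight

open Cfsg CfsgLib CfsgLib.Blocks ComplexConjugate

universe u

variable {G : Type u} [Group G] [Fintype G]

theorem conj_intCast' (n : ℤ) : conj (n : ℂ) = (n : ℂ) := map_intCast (starRingEnd ℂ) n

/-- The conjugate character. -/
noncomputable def conjIrr (χ : IrrCharacter G) : IrrCharacter G :=
  ⟨fun g => conj ((χ : G → ℂ) g), Char.IsIrrCharacter.conj' χ.2⟩

theorem conjIrr_apply (χ : IrrCharacter G) (g : G) :
    (conjIrr χ : G → ℂ) g = conj ((χ : G → ℂ) g) := rfl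

/-- No simple group has such a section. -/
theorem false_of_section {M : Ideal AlgInt} (hM : IsPModular 2 M) {t : G} (ht : orderOf t = 2)
    (hsol : Group.IsSolvable (Subgroup.centralizer ({t} : Set G)))
    (hlin : ∀ χ : IrrCharacter G, χ ≠ trivChar G → charDegree (χ : G → ℂ) ≠ 1)
    (S : Subgroup G) (hS : Nat.card S = 8) (hinv : ∀ s : S, s ≠ 1 → IsConj t (s : G))
    (hQ : Nat.card (↥(Subgroup.centralizer ({t} : Set G)) ⧸
      Cfsg.pPrimeCore 2 ↥(Subgroup.centralizer ({t} : Set G))) = 24)
    (L : LocalData (QuotientGroup.mk' (Cfsg.pPrimeCore 2 ↥(Subgroup.centralizer ({t} : Set G)))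
      ⟨t, Subgroup.mem_centralizer_singleton_iff.2 rfl⟩)) : False := by
  haveI : Fact (Nat.Prime 2) := ⟨Nat.prime_two⟩
  set C := Subgroup.centralizer ({t} : Set G) with hC
  set O := Cfsg.pPrimeCore 2 ↥C with hO
  set π := QuotientGroup.mk' O with hπ
  set tC : C := ⟨t, Subgroup.mem_centralizer_singleton_iff.2 rfl⟩ with htC
  have htt : t * t = 1 := mul_self_of_order_two ht
  have htCc : ∀ g : C, Commute tC g := fun g =>
    Subtype.ext (Subgroup.mem_centralizer_singleton_iff.1 g.2).symm
  have hOodd : ¬ 2 ∣ Nat.card O := fun h => by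
    have := (Nat.prime_two.coprime_iff_not_dvd).1 (Solvable.Cores.coprime_card_pPrimeCore (G := ↥C) 2).symm
    exact this h
  have hps : Cfsg.IsPSolvable 2 ↥C := by
    haveI := hsol
    exact Fusion.PSolvable.psolvable_of_solvable
  -- supports
  have hpart : ∀ g : C, (L.eta (π g) ≠ 0 ∨ L.theta (π g) ≠ 0) → IsPPart 2 g tC := by
    intro g hg
    obtain ⟨x, y, hx, hxy, hcom, hy, ⟨k, hk⟩, -, -⟩ := exists_isPPart Nat.prime_two g
    have hx' : IsPPart 2 (π g) (π x) := by
      refine ⟨π y, by rw [← map_mul, hxy], hcom.map π, ?_, fun h => hy (h.trans (orderOf_map_dvd π y))⟩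
      have hd := orderOf_map_dvd π x
      rw [hk, Nat.dvd_prime_pow Nat.prime_two] at hd
      obtain ⟨j, -, hj⟩ := hd
      exact ⟨j, hj⟩
    have he : π x = π tC := isPPart_unique Nat.prime_two hx' (L.supp _ hg)
    have hxt : (x * tC) ^ (2 ^ (k + 1)) = 1 := by
      rw [(htCc x).symm.mul_pow, pow_succ, pow_mul, ← hk, pow_orderOf_eq_one, one_pow, one_mul, mul_comm,
        pow_mul, show tC ^ 2 = 1 from Subtype.ext (by show t ^ 2 = 1; rw [sq, htt]), one_pow]
    have hxO : x * tC ∈ O := by
      rw [← QuotientGroup.eq_one_iff (N := O), ← QuotientGroup.mk'_apply, ← hπ, map_mul, he, ← map_mul,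
        show tC * tC = 1 from Subtype.ext htt, map_one]
    have h1 : orderOf (x * tC) = 1 := by
      obtain ⟨j, -, hj⟩ := (Nat.dvd_prime_pow Nat.prime_two).1 (orderOf_dvd_of_pow_eq_one hxt)
      rcases j with _ | j
      · rw [hj, pow_zero]
      · exact absurd ((dvd_pow_self 2 j.succ_ne_zero).trans (hj ▸ Subgroup.orderOf_dvd_natCard O hxO)) hOodd
    have hx1 : x = tC := by
      rw [orderOf_eq_one_iff] at h1
      calc x = x * (tC * tC) := by rw [show tC * tC = 1 from Subtype.ext htt, mul_one]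
        _ = tC := by rw [← mul_assoc, h1, one_mul]
    exact hx1 ▸ hx
  have hpartG : ∀ g : C, IsPPart 2 g tC → IsPPart 2 (g : G) t := by
    rintro g ⟨y, he, hc, ⟨k, hk⟩, hy⟩
    exact ⟨y, congrArg Subtype.val he, hc.map C.subtype, ⟨k, by rw [← hk, ← Subgroup.orderOf_coe]⟩,
      by rwa [Subgroup.orderOf_coe]⟩
  let D : G → Prop := fun g => IsPPart 2 g t
  have hTI : ∀ g x : G, x ∈ C → D x → g * x * g⁻¹ ∈ C → D (g * x * g⁻¹) → g ∈ C := by
    intro g x _ hx _ hgx
    have := isPPart_unique Nat.prime_two (isPPart_conj hx g) hgx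
    exact Subgroup.mem_centralizer_singleton_iff.2 (mul_inv_eq_iff_eq_mul.1 this)
  set η : C → ℂ := L.eta ∘ π with hη
  set θ : C → ℂ := L.theta ∘ π with hθ
  set θc : C → ℂ := fun g => conj (θ g) with hθc
  have hcomp : ∀ {f : ↥C ⧸ O → ℂ}, IsGeneralizedCharacter (↥C ⧸ O) f →
      IsGeneralizedCharacter C (f ∘ π) := by
    rintro f ⟨a, b, ha, hb, rfl⟩
    exact ⟨a ∘ π, b ∘ π, Char.IsCharacter.comp ha π, Char.IsCharacter.comp hb π, rfl⟩
  have hηg : IsGeneralizedCharacter C η := hcomp L.eta_gen
  have hθg : IsGeneralizedCharacter C θ := hcomp L.theta_gen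
  have hθcg : IsGeneralizedCharacter C θc := by
    obtain ⟨a, b, ha, hb, e⟩ := hθg
    exact ⟨fun g => conj (a g), fun g => conj (b g), Char.IsCharacter.conj' ha, Char.IsCharacter.conj' hb,
      funext fun g => by rw [hθc]; simp [congrFun e g]⟩
  have hηD : ∀ h : C, η h ≠ 0 → D h := fun h hh => hpartG h (hpart h (Or.inl hh))
  have hθD : ∀ h : C, θ h ≠ 0 → D h := fun h hh => hpartG h (hpart h (Or.inr hh))
  have hθcD : ∀ h : C, θc h ≠ 0 → D h := fun h hh => hθD h fun e => hh (by rw [hθc]; simp [e])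
  set α := Cfsg.indFun C η with hα
  set β := Cfsg.indFun C θ with hβ
  set γ := Cfsg.indFun C θc with hγ
  have hαg := Char.IsGeneralizedCharacter.indFun C hηg
  have hβg := Char.IsGeneralizedCharacter.indFun C hθg
  set A := BrauerSuzuki.coeff α with hA
  set B := BrauerSuzuki.coeff β with hB
  have hAc : ∀ χ : IrrCharacter G, (A χ : ℂ) = classInner η (fun g : C => (χ : G → ℂ) g) := fun χ => by
    rw [hA, BrauerSuzuki.cast_coeff hαg, Char.classInner_indFun C η (Char.IsIrrCharacter.isClassFunction χ.2)]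
  have hBc : ∀ χ : IrrCharacter G, (B χ : ℂ) = classInner θ (fun g : C => (χ : G → ℂ) g) := fun χ => by
    rw [hB, BrauerSuzuki.cast_coeff hβg, Char.classInner_indFun C θ (Char.IsIrrCharacter.isClassFunction χ.2)]
  have hinner : ∀ (f f' : ↥C ⧸ O → ℂ), classInner (f ∘ π) (f' ∘ π) = classInner f f' := fun f f' =>
    Char.classInner_comp_surjective π (QuotientGroup.mk'_surjective O) f f'
  have hconjc : ∀ χ : IrrCharacter G,
      classInner θc (fun g : C => (χ : G → ℂ) g) = (B (conjIrr χ) : ℂ) := fun χ => by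
    rw [← conj_intCast' (B (conjIrr χ)), hBc, Cfsg.classInner, Cfsg.classInner]
    simp [hθc, conjIrr_apply, map_sum]
  have hAconj : ∀ χ : IrrCharacter G, A (conjIrr χ) = A χ := fun χ => by
    have e : ((A (conjIrr χ) : ℤ) : ℂ) = (A χ : ℤ) := by
      rw [← conj_intCast' (A χ), hAc, hAc, Cfsg.classInner, Cfsg.classInner]
      simp [hη, conjIrr_apply, map_sum, L.eta_real]
    exact_mod_cast e
  have hsumInner : ∀ {X Y : G → ℂ}, IsClassFunction G X → classInner X Y =
      ∑ χ : IrrCharacter G, classInner X (χ : G → ℂ) * conj (classInner Y (χ : G → ℂ)) := fun hX => by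
    rw [Char.classInner_eq_sum_irr hX]
    exact Finset.sum_congr rfl fun χ _ => by rw [Char.classInner_conj_symm]
  have hcl : ∀ {f : C → ℂ}, IsGeneralizedCharacter C f → IsClassFunction C f := fun h =>
    Char.IsGeneralizedCharacter.isClassFunction h
  have hind : ∀ (f : C → ℂ) (χ : IrrCharacter G),
      classInner (Cfsg.indFun C f) (χ : G → ℂ) = classInner f (fun g : C => (χ : G → ℂ) g) := fun f χ =>
    Char.classInner_indFun C f (Char.IsIrrCharacter.isClassFunction χ.2)
  have hAA : ∑ χ : IrrCharacter G, A χ * A χ = 4 := by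
    have h := BrauerSuzuki.classInner_indFun_special C D (f := η) (f' := η) (hcl hηg) hηD hηD hTI
    rw [hη, hinner, L.eta_eta, hsumInner (Char.indFun_isClassFunction C _)] at h
    simp only [hind] at h
    simp only [← hη, ← hAc, conj_intCast'] at h
    exact_mod_cast h
  have hBB : ∑ χ : IrrCharacter G, B χ * B χ = 4 := by
    have h := BrauerSuzuki.classInner_indFun_special C D (f := θ) (f' := θ) (hcl hθg) hθD hθD hTI
    rw [hθ, hinner, L.theta_theta, hsumInner (Char.indFun_isClassFunction C _)] at h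
    simp only [hind] at h
    simp only [← hθ, ← hBc, conj_intCast'] at h
    exact_mod_cast h
  have hAB : ∑ χ : IrrCharacter G, A χ * B χ = 2 := by
    have h := BrauerSuzuki.classInner_indFun_special C D (f := η) (f' := θ) (hcl hθg) hηD hθD hTI
    rw [hη, hθ, hinner, L.eta_theta, hsumInner (Char.indFun_isClassFunction C _)] at h
    simp only [hind] at h
    simp only [← hη, ← hθ, ← hAc, ← hBc, conj_intCast'] at h
    exact_mod_cast h
  have hBτ : ∑ χ : IrrCharacter G, B χ * B (conjIrr χ) = 2 := by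
    have h := BrauerSuzuki.classInner_indFun_special C D (f := θ) (f' := θc) (hcl hθcg) hθD hθcD hTI
    have e : classInner θ θc = 2 := by
      rw [← L.theta_conj, ← hinner]
      rfl
    rw [e, hsumInner (Char.indFun_isClassFunction C _)] at h
    simp only [hind] at h
    simp only [hconjc, ← hBc, conj_intCast'] at h
    exact_mod_cast h
  have hA1 : A (trivChar G) = 1 := by
    have e : (A (trivChar G) : ℂ) = 1 := by
      rw [hAc, ← L.eta_one, ← hinner]
      rfl
    exact_mod_cast e
  have hB1 : B (trivChar G) = 1 := by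
    have e : (B (trivChar G) : ℂ) = 1 := by
      rw [hBc, ← L.theta_one, ← hinner]
      rfl
    exact_mod_cast e
  -- values on the section, only the principal block
  have hzero : ∀ χ : IrrCharacter G, χ ∉ principalBlock M G → ∀ f : ↥C ⧸ O → ℂ,
      IsClassFunction (↥C ⧸ O) f → (∀ g : C, f (π g) ≠ 0 → IsPPart 2 g tC) →
      classInner (f ∘ π) (fun g : C => (χ : G → ℂ) g) = 0 := by
    intro χ hχ f hfc hfs
    set ϑ : C → ℂ := fun c => (χ : G → ℂ) (t * (c : G)) with hϑ
    set Ψ : C → ℂ := fun c => f (π (tC * c)) with hΨ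
    have hshift : classInner (f ∘ π) (fun g : C => (χ : G → ℂ) g) = classInner Ψ ϑ := by
      rw [Cfsg.classInner, Cfsg.classInner]
      congr 1
      exact (Fintype.sum_equiv (Equiv.mulLeft tC) _ _ fun c => rfl).symm
    set b := principalBlock M C
    have hb : IsPBlock M b := isPBlock_principalBlock
    have hnot : ¬ IsInducedBlock M C b (blockOf M (χ : G → ℂ)) := by
      intro h
      have h0 := sectionSet_principal (G := G) hM (x := t) ⟨1, by rw [ht, pow_one]⟩
      have h1 : trivChar C ∈ sectionSet M C (principalBlock M G) := by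
        rw [hC, h0]; exact trivChar_mem_principalBlock hM
      have h2 : IsInducedBlock M C b (principalBlock M G) := by
        have h1' : IsInducedBlock M C (blockOf M ((trivChar C : IrrCharacter C) : C → ℂ)) (principalBlock M G) := h1
        rwa [← IsPBlock.eq_blockOf hM hb (trivChar_mem_principalBlock hM)] at h1'
      exact hχ (IsInducedBlock.unique hM h h2 ▸ SameBlock_refl hM _)
    have hΨzero : ∀ ζ : IrrCharacter C, ζ ∉ b → classInner Ψ (ζ : C → ℂ) = 0 := by
      intro ζ hζ
      set ψQ : ↥C ⧸ O → ℂ := fun q => f (π tC * q)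
      have hψc : IsClassFunction (↥C ⧸ O) ψQ := by
        intro q h
        obtain ⟨g, rfl⟩ := QuotientGroup.mk'_surjective O h
        show f (π tC * (π g * q * (π g)⁻¹)) = f (π tC * q)
        have hc : π tC * π g = π g * π tC := ((htCc g).map π).eq
        rw [← mul_assoc, ← mul_assoc, hc, mul_assoc (π g), hfc]
      have e : Ψ = ∑ ξ : IrrCharacter (↥C ⧸ O), classInner ψQ (ξ : ↥C ⧸ O → ℂ) •
          ((inflate O ξ : IrrCharacter C) : C → ℂ) := by
        funext c
        have := congrFun (Char.IsClassFunction.eq_sum_irr hψc) (π c)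
        simp only [hΨ, map_mul]
        rw [show f (π tC * π c) = ψQ (π c) from rfl, this]
        simp [Finset.sum_apply, inflate_apply, hπ]
      rw [e, Char.classInner_sum_left]
      refine Finset.sum_eq_zero fun ξ _ => ?_
      rw [Char.classInner_smul_left, Char.classInner_irr_ne (inflate O ξ).2 ζ.2, mul_zero]
      intro he
      exact hζ (Subtype.ext he ▸ PrincipalPrimeDegree.mem_principalBlock_of_pPrimeCore hM hps ξ)
    have hΨcl : IsClassFunction C Ψ := by
      intro c h
      show f (π (tC * (h * c * h⁻¹))) = f (π (tC * c))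
      rw [← mul_assoc, ← mul_assoc, (htCc h).eq, mul_assoc h tC c, map_mul, map_mul, map_inv, hfc]
    have hbp : classInner Ψ (blockPart b ϑ) = 0 := by
      rw [Cfsg.classInner, Finset.sum_eq_zero, mul_zero]
      intro c _
      by_cases hc0 : Ψ c = 0
      · rw [hc0, zero_mul]
      · obtain ⟨y, he, -, -, hy⟩ := hfs _ hc0
        have hyc : y = c := mul_left_cancel he
        subst hyc
        rw [blockPart_eq_zero_of_not_induced hM hC ⟨1, by rw [ht, pow_one]⟩ (isPBlock_blockOf χ)
          (SameBlock_refl hM _) hb hnot hy, map_zero, mul_zero]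
    rw [hshift, Char.classInner_eq_sum_irr hΨcl]
    have hbp' : ∑ ζ : IrrCharacter C, blockInd b ζ * (classInner Ψ (ζ : C → ℂ) * classInner (ζ : C → ℂ) ϑ) = 0 := by
      rw [← hbp, show blockPart b ϑ = fun c => ∑ φ : IrrCharacter C,
        (blockInd b φ * classInner ϑ (φ : C → ℂ)) • (φ : C → ℂ) c from funext fun c => by
          rw [blockPart_eq_sum]; exact Finset.sum_congr rfl fun φ _ => by rw [smul_eq_mul, mul_assoc]]
      rw [show (fun c => ∑ φ : IrrCharacter C, (blockInd b φ * classInner ϑ (φ : C → ℂ)) • (φ : C → ℂ) c)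
        = ∑ φ : IrrCharacter C, (blockInd b φ * classInner ϑ (φ : C → ℂ)) • (φ : C → ℂ) from
          funext fun c => by simp [Finset.sum_apply], Char.classInner_sum_right]
      refine Finset.sum_congr rfl fun φ _ => ?_
      rw [Char.classInner_smul_right, map_mul, Char.classInner_conj_symm]
      by_cases hφ : φ ∈ b
      · rw [blockInd_of_mem hφ, map_one]; ring
      · rw [blockInd_of_notMem hφ, map_zero]; ring
    rw [← hbp']
    refine Finset.sum_congr rfl fun ζ _ => ?_
    by_cases hζ : ζ ∈ b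
    · rw [blockInd_of_mem hζ, one_mul]
    · rw [hΨzero ζ hζ, zero_mul, mul_zero]
  have hmem : ∀ χ : IrrCharacter G, B χ ≠ 0 → χ ∈ principalBlock M G := by
    intro χ h
    by_contra hχ
    refine h ?_
    have e : (B χ : ℂ) = 0 := by
      rw [hBc]
      exact hzero χ hχ L.theta (Char.IsGeneralizedCharacter.isClassFunction L.theta_gen)
        fun g hg => hpart g (Or.inr hg)
    exact_mod_cast e
  set T : IrrCharacter G → ℤ := fun χ => 3 * A χ - B χ - B (conjIrr χ) with hTdef
  have hval : ∀ χ : IrrCharacter G, χ ∈ principalBlock M G → (χ : G → ℂ) t = (T χ : ℂ) := by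
    intro χ hχ
    have hOc : ∀ c : C, π c = π tC → (χ : G → ℂ) c = (χ : G → ℂ) t := by
      intro c hc
      have hy : tC⁻¹ * c ∈ O := QuotientGroup.eq.1 hc.symm
      have := BrauerSuzuki.principalBlock_apply_section hM (x := t) ⟨1, by rw [ht, pow_one]⟩ hχ O hOodd hy
      simpa [htC] using this
    have e : (T χ : ℂ) = classInner (fun g : C => 3 * η g - θ g - θc g) (fun g : C => (χ : G → ℂ) g) := by
      rw [hTdef]
      push_cast
      rw [hAc, hBc, ← hconjc]
      simp only [Cfsg.classInner, ← Finset.mul_sum, ← Finset.sum_sub_distrib, mul_sub, sub_mul]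
      simp only [Finset.mul_sum, ← Finset.sum_sub_distrib]
      exact Finset.sum_congr rfl fun g _ => by ring
    rw [← conj_intCast' (T χ), e, Cfsg.classInner]
    have hfun : ∀ g : C, 3 * η g - θ g - θc g = if π g = π tC then 24 else 0 := fun g => by
      show 3 * L.eta (π g) - L.theta (π g) - conj (L.theta (π g)) = _
      convert L.proj (π g)
    simp only [hfun, ite_mul, zero_mul]
    rw [← Finset.sum_filter, Finset.sum_congr rfl fun g hg => by rw [hOc g (Finset.mem_filter.1 hg).2],
      Finset.sum_const, nsmul_eq_mul]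
    have hcard : ((Finset.univ.filter fun g : C => π g = π tC).card : ℂ) * 24 = Nat.card C := by
      have h1 : (Finset.univ.filter fun g : C => π g = π tC).card = Nat.card O := by
        rw [← Fintype.card_subtype, ← Nat.card_eq_fintype_card]
        exact Nat.card_congr
          { toFun := fun g => (⟨tC⁻¹ * g.1, QuotientGroup.eq.1 g.2.symm⟩ : O)
            invFun := fun o => ⟨tC * (o : C), by
              rw [map_mul, show π (o : C) = 1 from (QuotientGroup.eq_one_iff _).2 o.2, mul_one]⟩
            left_inv := fun g => Subtype.ext (mul_inv_cancel_left tC g.1)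
            right_inv := fun o => Subtype.ext (inv_mul_cancel_left tC (o : C)) }
      rw [h1, Subgroup.card_eq_card_quotient_mul_card_subgroup O, hQ]
      push_cast; ring
    have hne : (Nat.card C : ℂ) ≠ 0 := Char.card_ne_zero
    rw [map_mul, map_mul, map_mul, map_inv₀, Complex.conj_conj, map_natCast, map_natCast,
      Complex.conj_ofNat, ← mul_assoc ((Finset.card _ : ℕ) : ℂ), hcard, ← mul_assoc, inv_mul_cancel₀ hne,
      one_mul]
  have hB_deg : ∑ χ : IrrCharacter G, B χ * (charDegree (χ : G → ℂ) : ℤ) = 0 := by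
    have h := BrauerSuzuki.eq_sum_coeff hβg 1
    rw [Char.indFun_one, show θ 1 = 0 from ?_, mul_zero] at h
    · have e : ((∑ χ : IrrCharacter G, B χ * (charDegree (χ : G → ℂ) : ℤ) : ℤ) : ℂ) = 0 := by
        rw [h]; push_cast; simp only [hB, irr_one_eq]; rfl
      exact_mod_cast e
    by_contra h1
    obtain ⟨y, he, hc, -, hy⟩ := hpart 1 (Or.inr h1)
    refine hy ?_
    rw [show y = tC⁻¹ from eq_inv_of_mul_eq_one_right he, orderOf_inv, ← Subgroup.orderOf_coe, ht]
  have hsq : ∑ χ : IrrCharacter G, (B χ : ℂ) * ((χ : G → ℂ) t ^ 2 / (χ : G → ℂ) 1) = 0 := by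
    simp only [hBc, Cfsg.classInner, Finset.mul_sum, Finset.sum_mul]
    rw [Finset.sum_comm]
    refine Finset.sum_eq_zero fun g _ => ?_
    by_cases hg0 : θ g = 0
    · simp [hg0]
    have hl := L.theta_supp _ hg0
    have hp := hpart g (Or.inr hg0)
    have hno : ∀ a : G, IsConj t a → ¬ IsConj t (a⁻¹ * ((g : G)⁻¹)⁻¹) := by
      intro a ha hb
      obtain ⟨u, rfl⟩ := isConj_iff.1 ha
      obtain ⟨v, hv⟩ := isConj_iff.1 hb
      set a := u * t * u⁻¹
      rw [inv_inv] at hv
      have haa : a * a = 1 := by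
        calc a * a = u * (t * t) * u⁻¹ := by simp [a, mul_assoc]
          _ = 1 := by rw [htt]; simp
      have hbb : (a⁻¹ * g) * (a⁻¹ * g) = 1 := by
        rw [← hv]
        calc v * t * v⁻¹ * (v * t * v⁻¹) = v * (t * t) * v⁻¹ := by simp [mul_assoc]
          _ = 1 := by rw [htt]; simp
      have hag : a * g * a⁻¹ = (g : G)⁻¹ := by
        have h1 : a⁻¹ * g * a⁻¹ = (g : G)⁻¹ := eq_inv_of_mul_eq_one_left (by rw [← hbb]; group)
        rwa [inv_eq_of_mul_eq_one_right haa] at h1 ⊢
      have hgp := hpartG g hp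
      have hconjt := isPPart_conj hgp a
      rw [hag] at hconjt
      have hginv : IsPPart 2 (g : G)⁻¹ t := by
        obtain ⟨y, he, hc, hk, hy⟩ := hgp
        refine ⟨y⁻¹, ?_, hc.inv_right, hk, by rwa [orderOf_inv]⟩
        rw [← he, mul_inv_rev, inv_eq_of_mul_eq_one_right htt]
        exact hc.inv_right.eq
      have hat : a * t * a⁻¹ = t := isPPart_unique Nat.prime_two hconjt hginv
      have haC : a ∈ C := Subgroup.mem_centralizer_singleton_iff.2 (mul_inv_eq_iff_eq_mul.1 hat)
      have h2 := congrArg (fun z : C => L.lam (π z))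
        (show (⟨a, haC⟩ : C) * g * (⟨a, haC⟩ : C)⁻¹ = g⁻¹ from Subtype.ext hag)
      simp only [map_mul, map_inv, mul_inv_cancel_comm] at h2
      exact hl.2 (by
        calc L.lam (π g) = L.lam (π g) ^ 3 * (L.lam (π g) * L.lam (π g))⁻¹ := by group
          _ = 1 := by
            rw [hl.1, show L.lam (π g) * L.lam (π g) = 1 by nth_rw 1 [h2]; exact inv_mul_cancel _]
            simp)
    have h3 := sum_sq_mul_div_eq_zero t ((g : G)⁻¹) hno
    calc ∑ χ : IrrCharacter G, (Nat.card C : ℂ)⁻¹ * (θ g * conj ((χ : G → ℂ) g)) *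
          ((χ : G → ℂ) t ^ 2 / (χ : G → ℂ) 1)
        = (Nat.card C : ℂ)⁻¹ * θ g * ∑ χ : IrrCharacter G,
            (χ : G → ℂ) t ^ 2 * (χ : G → ℂ) (g : G)⁻¹ / (χ : G → ℂ) 1 := by
          rw [Finset.mul_sum]
          refine Finset.sum_congr rfl fun χ _ => ?_
          rw [Char.IsIrrCharacter.apply_inv χ.2]
          ring
      _ = 0 := by rw [h3, mul_zero]
  have hdegpos : ∀ χ : IrrCharacter G, 1 ≤ charDegree (χ : G → ℂ) := fun χ =>
    Nat.one_le_iff_ne_zero.2 fun h => irr_one_ne_zero χ (by rw [irr_one_eq, h, Nat.cast_zero])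
  refine no_columns conjIrr (fun χ => Subtype.ext (funext fun g => Complex.conj_conj _)) (trivChar G)
    (Subtype.ext (funext fun g => by rw [conjIrr_apply, trivChar_apply, map_one]))
    (fun χ => (charDegree (χ : G → ℂ) : ℤ)) A B T hA1 hB1 ?_ ?_ hAA hBB hAB hBτ hAconj
    (fun χ _ => rfl) ?_ hB_deg ?_ ?_
  · have : ((charDegree ((trivChar G : IrrCharacter G) : G → ℂ) : ℕ) : ℂ) = 1 := by
      rw [← irr_one_eq, trivChar_apply]
    exact_mod_cast this
  · have := hval (trivChar G) (trivChar_mem_principalBlock hM)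
    rw [trivChar_apply] at this
    exact_mod_cast this.symm
  · intro χ hχ
    have := hdegpos χ
    have := hlin χ hχ
    omega
  · have e : ((∑ χ : IrrCharacter G, (B χ : ℚ) * (T χ : ℚ) ^ 2 / ((charDegree (χ : G → ℂ) : ℤ) : ℚ) : ℚ) : ℂ)
        = 0 := by
      rw [← hsq]
      push_cast
      refine Finset.sum_congr rfl fun χ _ => ?_
      by_cases h : B χ = 0
      · simp [h]
      · rw [hval χ (hmem χ h), irr_one_eq, mul_div_assoc]
    exact_mod_cast e
  · intro χ hχ
    obtain ⟨m, hm⟩ := Char.IsCharacter.classInner_nat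
      (Char.IsCharacter.restrict (Char.isCharacter_irr χ) S) (Char.isCharacter_one (G := S))
    refine ⟨m, ?_⟩
    rw [Cfsg.classInner, hS, ← Finset.add_sum_erase _ _ (Finset.mem_univ (1 : S)),
      Finset.sum_congr rfl (g := fun _ => (χ : G → ℂ) t) fun s hs => by
        obtain ⟨u, hu⟩ := isConj_iff.1 (hinv s (Finset.ne_of_mem_erase hs))
        rw [map_one, mul_one, ← hu]; exact irr_conj_apply χ t u,
      Finset.sum_const, Finset.card_erase_of_mem (Finset.mem_univ _), Finset.card_univ,
      ← Nat.card_eq_fintype_card, hS, map_one, mul_one, Subgroup.coe_one, irr_one_eq,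
      hval χ (hmem χ hχ)] at hm
    have e : (((charDegree (χ : G → ℂ) : ℤ) + 7 * T χ : ℤ) : ℂ) = ((8 * (m : ℤ) : ℤ) : ℂ) := by
      push_cast
      rw [← hm]
      push_cast
      ring
    exact_mod_cast e

end CfsgLib.Involution.ElementaryEight
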