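import Cfsg.Agent.Lib.Involution.ElementaryEight.Action
import Cfsg.Agent.Lib.Involution.ElementaryEight.Section
import Cfsg.Agent.Lib.Fusion.Abelian
import Cfsg.Agent.Lib.Fusion.PSolvable
import Cfsg.Agent.Lib.Components.PComponents
import Cfsg.Agent.Lib.Blocks.Basic

/-!
A simple group with elementary abelian Sylow 2-subgroup of order eight and solvable involution
centralisers has automizer of order seven.
-/

set_option autoImplicit false

open scoped Classical

namespace CfsgLib.Involution.ElementaryEight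

open Cfsg CfsgLib ComplexConjugate

universe u

variable {G : Type u} [Group G] [Finite G]

theorem mem_center_normalizer_eq_one [IsSimpleGroup G] (hG : ¬ IsMulCommutative G) (S : Sylow 2 G)
    (hSc : IsMulCommutative (S : Subgroup G)) {v : G} (hv : v ∈ (S : Subgroup G))
    (hc : ∀ n ∈ Subgroup.normalizer ((S : Subgroup G) : Set G), n * v = v * n) : v = 1 := by
  haveI : Fact (Nat.Prime 2) := ⟨Nat.prime_two⟩
  have htop : commutator G = ⊤ := by
    rcases IsSimpleGroup.eq_bot_or_eq_top_of_normal (commutator G) inferInstance with h | h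
    · exact absurd ⟨⟨fun a b => commutatorElement_eq_one_iff_mul_comm.1 (Subgroup.mem_bot.1
        (h ▸ (commutator_def G ▸ Subgroup.commutator_mem_commutator (Subgroup.mem_top a) (Subgroup.mem_top b))))⟩⟩ hG
    · exact h
  set N := Subgroup.normalizer ((S : Subgroup G) : Set G)
  have hSN : (S : Subgroup G) ≤ N := Subgroup.le_normalizer
  have h1 := Fusion.Transfer.commutator_inf_eq_of_controls S hSN
    (Fusion.Transfer.controls_normalizer_of_comm S hSc)
  rw [htop, top_inf_eq] at h1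
  have hvN : v ∈ ⁅N, N⁆ := by
    have := h1 ▸ hv
    exact (Subgroup.mem_inf.1 this).1
  set A := (S : Subgroup G).subgroupOf N
  have hAc : IsMulCommutative A := ⟨⟨fun a b => Subtype.ext (Subtype.ext (by
    have := congrArg Subtype.val (hSc.is_comm.comm (⟨_, a.2⟩ : (S : Subgroup G)) ⟨_, b.2⟩)
    exact this))⟩⟩
  have hHall : Nat.Coprime (Nat.card A) A.index := by
    obtain ⟨k, hk⟩ := S.isPGroup'.exists_card_eq
    rw [Nat.card_congr (Subgroup.subgroupOfEquivOfLe hSN).toEquiv, hk]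
    exact Nat.Coprime.pow_left k (Nat.prime_two.coprime_iff_not_dvd.2 fun h =>
      S.not_dvd_index (h.trans (Subgroup.relIndex_dvd_index_of_le hSN)))
  have hb := Fusion.Abelian.inf_commutator_inf_center A hAc hHall
  have hvC : (⟨v, hSN hv⟩ : N) ∈ commutator N := by
    have : ⁅N, N⁆ = (commutator N).map N.subtype := (Subgroup.map_subtype_commutator N).symm
    rw [this] at hvN
    obtain ⟨w, hw, he⟩ := hvN
    rwa [show (⟨v, hSN hv⟩ : N) = w from Subtype.ext he.symm]
  have : (⟨v, hSN hv⟩ : N) ∈ A ⊓ commutator N ⊓ Subgroup.center N :=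
    ⟨⟨hv, hvC⟩, Subgroup.mem_center_iff.2 fun n => Subtype.ext (hc n n.2)⟩
  rw [hb, Subgroup.mem_bot] at this
  exact congrArg Subtype.val this

theorem exists_mem_conj (S : Sylow 2 G) {y : G} (hy : orderOf y = 2) :
    ∃ g : G, g * y * g⁻¹ ∈ (S : Subgroup G) := by
  haveI : Fact (Nat.Prime 2) := ⟨Nat.prime_two⟩
  obtain ⟨P, hP⟩ := (IsPGroup.of_card (p := 2) (n := 1)
    (by rw [Nat.card_zpowers, hy, pow_one] : Nat.card (Subgroup.zpowers y) = 2 ^ 1)).exists_le_sylow
  obtain ⟨g, hg⟩ := MulAction.exists_smul_eq G P S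
  refine ⟨g, ?_⟩
  rw [← hg]
  exact ⟨y, hP (Subgroup.mem_zpowers y), rfl⟩

theorem relIndex_eq_seven [IsSimpleGroup G] (hG : ¬ IsMulCommutative G) (S : Sylow 2 G)
    (hsq : ∀ s ∈ (S : Subgroup G), s * s = 1) (h8 : Nat.card (S : Subgroup G) = 8)
    (hC : ∀ t : G, orderOf t = 2 → Group.IsSolvable ↥(Subgroup.centralizer ({t} : Set G))) :
    (Subgroup.centralizer ((S : Subgroup G) : Set G)).relIndex
      (Subgroup.normalizer ((S : Subgroup G) : Set G)) = 7 := by
  haveI : Fact (Nat.Prime 2) := ⟨Nat.prime_two⟩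
  cases nonempty_fintype G
  set N := Subgroup.normalizer ((S : Subgroup G) : Set G)
  have hsq' : ∀ s : (S : Subgroup G), s * s = 1 := fun s => Subtype.ext (hsq s s.2)
  have hSc : IsMulCommutative (S : Subgroup G) := ⟨⟨comm hsq'⟩⟩
  set ρ := (S : Subgroup G).normalizerMonoidHom
  have hker : ρ.ker = (Subgroup.centralizer ((S : Subgroup G) : Set G)).subgroupOf N :=
    Subgroup.normalizerMonoidHom_ker _
  have hr : (Subgroup.centralizer ((S : Subgroup G) : Set G)).relIndex N = Nat.card ρ.range := by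
    rw [← Subgroup.index_ker ρ, hker]; rfl
  rw [hr]
  set K := ρ.range
  have hKodd : Odd (Nat.card K) := by
    rw [← Nat.not_even_iff_odd, even_iff_two_dvd, ← hr]
    intro h
    refine S.not_dvd_index (h.trans ?_)
    have hle : (S : Subgroup G) ≤ Subgroup.centralizer ((S : Subgroup G) : Set G) :=
      fun a ha b hb => congrArg Subtype.val (comm hsq' (⟨b, hb⟩ : (S : Subgroup G)) ⟨a, ha⟩)
    exact (Subgroup.index_dvd_of_le (Subgroup.comap_mono (f := N.subtype) hle)).trans
      (Subgroup.relIndex_dvd_index_of_le Subgroup.le_normalizer)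
  have hfix : ∀ v : (S : Subgroup G), v ≠ 1 → ∃ k : K, K.subtype k v ≠ v := by
    intro v hv
    by_contra h
    push Not at h
    refine hv (Subtype.ext (mem_center_normalizer_eq_one hG S hSc v.2 fun n hn => ?_))
    have h1 := congrArg Subtype.val (h ⟨ρ ⟨n, hn⟩, _, rfl⟩)
    change n * (v : G) * n⁻¹ = v at h1
    exact mul_inv_eq_iff_eq_mul.1 h1
  haveI : Nontrivial (S : Subgroup G) := Finite.one_lt_card_iff_nontrivial.1 (by rw [h8]; norm_num)
  obtain ⟨x, hx⟩ := exists_ne (1 : (S : Subgroup G))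
  obtain ⟨htrans, H, hH, hcard⟩ := transitive h8 hsq' K.subtype K.subtype_injective hKodd hfix x hx
  have hH3 : Nat.card H ∣ 3 := card_dvd_three h8 hsq' (K.subtype.comp H.subtype)
    (K.subtype_injective.comp H.subtype_injective)
    (hKodd.of_dvd_nat H.card_subgroup_dvd_card) hx (fun k => (hH k.1).1 k.2)
  rcases (Nat.dvd_prime Nat.prime_three).1 hH3 with h | h
  · rw [hcard, h]
  exfalso
  -- the involution `t` and its centraliser
  set t : G := (x : G) with htdef
  have ht : orderOf t = 2 := orderOf_eq_prime (by rw [sq]; exact hsq _ x.2) fun h => hx (Subtype.ext h)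
  have hconj : ∀ y : G, orderOf y = 2 → IsConj t y := by
    intro y hy
    obtain ⟨g, hg⟩ := exists_mem_conj S hy
    have hne : (⟨_, hg⟩ : (S : Subgroup G)) ≠ 1 := fun h1 => by
      have := congrArg Subtype.val h1
      simp only [Subgroup.coe_one, conj_eq_one_iff] at this
      rw [this, orderOf_one] at hy
      norm_num at hy
    obtain ⟨k, hk⟩ := htrans _ hne
    obtain ⟨n, hn⟩ := k.2
    have h1 : (n : G) * t * (n : G)⁻¹ = g * y * g⁻¹ := by
      have := congrArg Subtype.val hk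
      rw [show K.subtype k = ρ n from hn.symm] at this
      exact this
    exact isConj_iff.2 ⟨g⁻¹ * n, by
      calc g⁻¹ * n * t * (g⁻¹ * n)⁻¹ = g⁻¹ * ((n : G) * t * (n : G)⁻¹) * g := by group
        _ = y := by rw [h1]; group⟩
  set C := Subgroup.centralizer ({t} : Set G)
  have hSC : (S : Subgroup G) ≤ C := fun a ha => Subgroup.mem_centralizer_singleton_iff.2
    (congrArg Subtype.val (comm hsq' (⟨a, ha⟩ : (S : Subgroup G)) x))
  haveI := hC t ht
  set O := Cfsg.pPrimeCore 2 ↥C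
  set π := QuotientGroup.mk' O
  set Sb := ((S : Subgroup G).subgroupOf C).map π
  have hinj : ∀ a : C, (a : G) ∈ (S : Subgroup G) → π a = 1 → a = 1 := by
    intro a ha h1
    have h2 : a ∈ O := (QuotientGroup.eq_one_iff a).1 h1
    have h3 : orderOf a ∣ 2 := orderOf_dvd_of_pow_eq_one (Subtype.ext (by rw [sq]; exact hsq _ ha))
    have h4 := Nat.dvd_gcd h3 (Subgroup.orderOf_dvd_natCard O h2)
    rw [(Solvable.Cores.coprime_card_pPrimeCore (G := ↥C) 2).symm.gcd_eq_one, Nat.dvd_one,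
      orderOf_eq_one_iff] at h4
    exact h4
  have hSb8 : Nat.card Sb = 8 := by
    rw [← h8]
    refine (Nat.card_congr (Equiv.ofBijective (fun s : (S : Subgroup G) =>
      (⟨π ⟨s, hSC s.2⟩, Subgroup.mem_map_of_mem π (Subgroup.mem_subgroupOf.2 s.2)⟩ : Sb)) ⟨fun a b hab => ?_, ?_⟩)).symm
    · have h1 : π (⟨a, hSC a.2⟩⁻¹ * ⟨b, hSC b.2⟩) = 1 := by
        have h0 : π ⟨a, hSC a.2⟩ = π ⟨b, hSC b.2⟩ := congrArg Subtype.val hab
        rw [map_mul, map_inv, h0, inv_mul_cancel]
      have := congrArg Subtype.val (hinj _ (mul_mem (inv_mem a.2) b.2) h1)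
      exact Subtype.ext (inv_mul_eq_one.1 this)
    · rintro ⟨_, a, ha, rfl⟩
      exact ⟨⟨a, Subgroup.mem_subgroupOf.1 ha⟩, rfl⟩
  have hSbsq : ∀ q ∈ Sb, q * q = 1 := by
    rintro _ ⟨a, ha, rfl⟩
    rw [← map_mul, show a * a = 1 from Subtype.ext (hsq _ (Subgroup.mem_subgroupOf.1 ha)), map_one]
  have hSbidx : ¬ 2 ∣ Sb.index := fun h2 => S.not_dvd_index ((h2.trans
    (Subgroup.index_map_dvd _ (QuotientGroup.mk'_surjective O))).trans
      (Subgroup.relIndex_dvd_index_of_le hSC))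
  have hSbp : IsPGroup 2 Sb := IsPGroup.of_card (n := 3) (by rw [hSb8]; norm_num)
  set P : Sylow 2 (↥C ⧸ O) := hSbp.toSylow hSbidx
  have hPcoe : (P : Subgroup (↥C ⧸ O)) = Sb := rfl
  have hQps : Cfsg.IsPSolvable 2 (↥C ⧸ O) :=
    Fusion.PSolvable.psolvable_quotient Fusion.PSolvable.psolvable_of_solvable O
  have hQO : Cfsg.pPrimeCore 2 (↥C ⧸ O) = ⊥ := Components.pPrimeCore_quotient_eq_bot
  have hcen := Fusion.PSolvable.centralizer_pCore_le hQps hQO
  have hSbc : ∀ {a b}, a ∈ Sb → b ∈ Sb → a * b = b * a := fun {a b} ha hb =>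
    congrArg Subtype.val (comm (V := Sb) (fun s => Subtype.ext (hSbsq _ s.2)) ⟨a, ha⟩ ⟨b, hb⟩)
  have hcore : Cfsg.pCore 2 (↥C ⧸ O) = Sb := by
    refine le_antisymm (hPcoe ▸ Solvable.Cores.pCore_le_sylow P) fun a ha => hcen fun b hb => ?_
    exact hSbc ((hPcoe ▸ Solvable.Cores.pCore_le_sylow P) hb) ha
  haveI hSbn : Sb.Normal := hcore ▸ Cfsg.pCore_normal 2 _
  have hcenSb : Subgroup.centralizer (Sb : Set (↥C ⧸ O)) ≤ Sb := hcore ▸ hcen
  set φ : ↥C ⧸ O →* MulAut Sb := MulAut.conjNormal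
  have hφker : φ.ker = Sb := by
    refine le_antisymm (fun a ha => hcenSb fun b hb => ?_) fun a ha => ?_
    · have h1 := congrArg (fun σ : MulAut Sb => (σ ⟨b, hb⟩ : ↥C ⧸ O)) (MonoidHom.mem_ker.1 ha)
      simp only [φ, MulAut.conjNormal_apply, MulAut.one_apply] at h1
      exact (mul_inv_eq_iff_eq_mul.1 h1).symm
    · refine MonoidHom.mem_ker.2 (MulEquiv.ext fun b => Subtype.ext ?_)
      simp only [φ, MulAut.conjNormal_apply, MulAut.one_apply]
      rw [hSbc ha b.2, mul_inv_cancel_right]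
  set tC : C := ⟨t, Subgroup.mem_centralizer_singleton_iff.2 rfl⟩
  set tb : Sb := ⟨π tC, Subgroup.mem_map_of_mem π (Subgroup.mem_subgroupOf.2 x.2)⟩
  have htc : ∀ q : ↥C ⧸ O, Commute (π tC) q := fun q => by
    obtain ⟨g, rfl⟩ := QuotientGroup.mk'_surjective O q
    exact (show Commute tC g from Subtype.ext (Subgroup.mem_centralizer_singleton_iff.1 g.2).symm).map π
  have htb : tb ≠ 1 := fun h1 => by
    have := hinj tC x.2 (congrArg Subtype.val h1)
    exact hx (Subtype.ext (show t = 1 from congrArg Subtype.val this))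
  have hsqSb : ∀ s : Sb, s * s = 1 := fun s => Subtype.ext (hSbsq _ s.2)
  have hodd : Odd (Nat.card φ.range) := by
    rw [← Subgroup.index_ker, hφker, ← Nat.not_even_iff_odd, even_iff_two_dvd]
    exact hSbidx
  have hfixt : ∀ k : φ.range, φ.range.subtype k tb = tb := by
    rintro ⟨_, q, rfl⟩
    refine Subtype.ext ?_
    show q * π tC * q⁻¹ = π tC
    rw [← (htc q).eq, mul_inv_cancel_right]
  have hdvd := card_dvd_three hSb8 hsqSb φ.range.subtype φ.range.subtype_injective hodd htb hfixt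
  have hne1 : Nat.card φ.range ≠ 1 := by
    intro h1
    haveI : Nontrivial H := Finite.one_lt_card_iff_nontrivial.1 (by rw [h]; norm_num)
    obtain ⟨k, hk⟩ := exists_ne (1 : H)
    obtain ⟨n, hn⟩ := k.1.2
    have hfx := congrArg Subtype.val ((hH k.1).1 k.2)
    rw [show K.subtype k.1 = ρ n from hn.symm] at hfx
    change (n : G) * t * (n : G)⁻¹ = t at hfx
    have hnC : (n : G) ∈ C := Subgroup.mem_centralizer_singleton_iff.2 (mul_inv_eq_iff_eq_mul.1 hfx)
    refine hk (Subtype.ext (Subtype.ext ?_))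
    show ((k.1 : ↥K) : MulAut ↥(S : Subgroup G)) = 1
    rw [show ((k.1 : ↥K) : MulAut ↥(S : Subgroup G)) = ρ n from hn.symm]
    refine MulEquiv.ext fun s => Subtype.ext ?_
    show (n : G) * s * (n : G)⁻¹ = s
    have htriv : φ (π ⟨n, hnC⟩) = 1 := by
      haveI := (Nat.card_eq_one_iff_unique.1 h1).1
      exact congrArg Subtype.val (Subsingleton.elim (⟨_, _, rfl⟩ : φ.range) 1)
    have h2 := congrArg (fun σ : MulAut Sb => (σ ⟨π ⟨s, hSC s.2⟩,
      Subgroup.mem_map_of_mem π (Subgroup.mem_subgroupOf.2 s.2)⟩ : ↥C ⧸ O)) htriv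
    simp only [φ, MulAut.conjNormal_apply, MulAut.one_apply] at h2
    set c : C := (⟨n, hnC⟩ * ⟨s, hSC s.2⟩ * ⟨n, hnC⟩⁻¹)
    have hcS : (c : G) ∈ (S : Subgroup G) := (Subgroup.mem_normalizer_iff.1 n.2 s).1 s.2
    have h3 : π (c * ⟨s, hSC s.2⟩⁻¹) = 1 := by
      rw [map_mul, map_mul, map_mul, map_inv, map_inv, h2, mul_inv_cancel]
    have := congrArg Subtype.val (hinj _ (mul_mem hcS (inv_mem s.2)) h3)
    exact mul_inv_eq_one.1 this
  have hidx : Sb.index = 3 := by
    rw [← hφker, Subgroup.index_ker]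
    exact ((Nat.dvd_prime Nat.prime_three).1 hdvd).resolve_left hne1
  have h24 : Nat.card (↥C ⧸ O) = 24 := by rw [← Sb.card_mul_index, hSb8, hidx]
  haveI : Fact (Nat.Prime 3) := ⟨Nat.prime_three⟩
  obtain ⟨a, ha⟩ := exists_prime_orderOf_dvd_card' (G := ↥C ⧸ O) 3 (by rw [h24]; norm_num)
  have haS : a ∉ Sb := fun h1 => by
    have h2 := Subgroup.orderOf_dvd_natCard Sb h1
    rw [ha, hSb8] at h2
    norm_num at h2
  have hfixa : ∀ s ∈ Sb, Commute a s → s = 1 ∨ s = π tC := by
    intro s hs hc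
    by_contra hcon
    push Not at hcon
    refine haS (hφker ▸ MonoidHom.mem_ker.2 ?_)
    refine eq_one_of_fix hSb8 hsqSb (x := tb) (y := ⟨s, hs⟩) (Odd.of_dvd_nat (by decide : Odd 3)
      (ha ▸ orderOf_map_dvd φ a)) htb (fun e => hcon.1 (congrArg Subtype.val e))
      (fun e => hcon.2 (congrArg Subtype.val e).symm) (hfixt ⟨_, a, rfl⟩) (Subtype.ext ?_)
    show a * s * a⁻¹ = s
    rw [hc.eq, mul_inv_cancel_right]
  obtain ⟨L⟩ := exists_localData Sb h24 hSb8 hSbsq tb.2 (fun e => htb (Subtype.ext e)) htc ha hfixa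
  obtain ⟨M, hM⟩ := Blocks.exists_isPModular Nat.prime_two
  have hlin : ∀ χ : IrrCharacter G, χ ≠ Blocks.trivChar G → charDegree (χ : G → ℂ) ≠ 1 := by
    intro χ hne h1
    have h2 : (χ : G → ℂ) 1 = 1 := by rw [Blocks.irr_one_eq, h1, Nat.cast_one]
    obtain ⟨l, hl⟩ := Char.exists_hom_of_apply_one_eq_one (Char.isCharacter_irr χ) h2
    have hle : commutator G ≤ l.ker := Abelianization.commutator_subset_ker l
    have htop : commutator G = ⊤ := by
      rcases IsSimpleGroup.eq_bot_or_eq_top_of_normal (commutator G) inferInstance with h | h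
      · exact absurd ⟨⟨fun a b => commutatorElement_eq_one_iff_mul_comm.1 (Subgroup.mem_bot.1
          (h ▸ (commutator_def G ▸ Subgroup.commutator_mem_commutator (Subgroup.mem_top a) (Subgroup.mem_top b))))⟩⟩ hG
      · exact h
    refine hne (Subtype.ext (funext fun g => ?_))
    rw [Blocks.trivChar_apply, hl]
    simp [MonoidHom.mem_ker.1 (hle (htop ▸ Subgroup.mem_top g))]
  exact false_of_section hM ht (hC t ht) hlin (S : Subgroup G) h8
    (fun s hs => hconj s (orderOf_eq_prime (by rw [sq]; exact hsq _ s.2) fun e => hs (Subtype.ext e)))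
    h24 L

end CfsgLib.Involution.ElementaryEight
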