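import Cfsg.Prelude.Def_Blocks
import Cfsg.Agent.Lib.Char.Induced
import Cfsg.Agent.Lib.Char.Linear
import Cfsg.Agent.Lib.Char.Virtual
import Cfsg.Agent.Lib.Fusion.Transfer
import Mathlib.GroupTheory.FiniteAbelian.Duality

/-!
Two generalized characters of norm four on a group `2 × A₄` supported on a section of the central
involution.
-/

set_option autoImplicit false

open scoped Classical

namespace CfsgLib.Involution.ElementaryEight

open Cfsg ComplexConjugate

universe u

/-- The data used on the section of `t`. -/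
structure LocalData {Q : Type u} [Group Q] [Fintype Q] (t : Q) where
  lam : Q →* ℂˣ
  eta : Q → ℂ
  theta : Q → ℂ
  eta_gen : IsGeneralizedCharacter Q eta
  theta_gen : IsGeneralizedCharacter Q theta
  supp : ∀ q, eta q ≠ 0 ∨ theta q ≠ 0 → IsPPart 2 q t
  theta_supp : ∀ q, theta q ≠ 0 → lam q ^ 3 = 1 ∧ lam q ≠ 1
  theta_t : theta t = 0
  eta_eta : classInner eta eta = 4
  theta_theta : classInner theta theta = 4
  eta_theta : classInner eta theta = 2
  theta_conj : classInner theta (fun q => conj (theta q)) = 2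
  eta_one : classInner eta (fun _ => 1) = 1
  theta_one : classInner theta (fun _ => 1) = 1
  eta_real : ∀ q, conj (eta q) = eta q
  proj : ∀ q, 3 * eta q - theta q - conj (theta q) = if q = t then 24 else 0

variable {Q : Type u} [Group Q] [Fintype Q]

theorem mem_of_lam {S : Subgroup Q} [S.Normal] (h3 : Nat.card (Q ⧸ S) = 3) (lam : Q ⧸ S →* ℂˣ)
    {a : Q} (ha : lam (QuotientGroup.mk a) ≠ 1) {q : Q} (hq : lam (QuotientGroup.mk q) = 1) :
    q ∈ S := by
  haveI : Fact (Nat.Prime 3) := ⟨Nat.prime_three⟩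
  by_contra h
  have hne : (QuotientGroup.mk q : Q ⧸ S) ≠ 1 := fun e => h ((QuotientGroup.eq_one_iff q).1 e)
  have hm := mem_zpowers_of_prime_card (G := Q ⧸ S) h3 hne (g' := QuotientGroup.mk a)
  obtain ⟨i, hi⟩ := hm
  exact ha (by rw [← hi, map_zpow, hq, one_zpow])

/-- Exponent reduction at a given order. -/
theorem pow_mod_orderOf_aux {M : Type*} [Monoid M] (x : M) (n : ℕ) {m : ℕ} (h : orderOf x = m) :
    x ^ n = x ^ (n % m) := by rw [← h, pow_mod_orderOf]

/-- The local data exist. -/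
theorem exists_localData (S : Subgroup Q) [S.Normal] (h24 : Nat.card Q = 24) (hS8 : Nat.card S = 8)
    (hsq : ∀ s ∈ S, s * s = 1) {t a : Q} (htS : t ∈ S) (ht1 : t ≠ 1) (htc : ∀ q, Commute t q)
    (ha3 : orderOf a = 3) (hfix : ∀ s ∈ S, Commute a s → s = 1 ∨ s = t) :
    Nonempty (LocalData t) := by
  have hQS : Nat.card (Q ⧸ S) = 3 := by
    have h := Subgroup.card_eq_card_quotient_mul_card_subgroup S
    rw [h24, hS8] at h
    omega
  have haS : a ∉ S := fun h => by
    have := orderOf_dvd_of_pow_eq_one (show a ^ 2 = 1 by rw [sq]; exact hsq a h)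
    rw [ha3] at this
    norm_num at this
  haveI : IsCyclic (Q ⧸ S) := isCyclic_of_prime_card (p := 3) (hp := ⟨Nat.prime_three⟩) hQS
  letI : CommGroup (Q ⧸ S) := IsCyclic.commGroup
  obtain ⟨l, hl⟩ := CommGroup.exists_apply_ne_one_of_hasEnoughRootsOfUnity (Q ⧸ S) ℂ
    (a := QuotientGroup.mk a) (fun h => haS ((QuotientGroup.eq_one_iff a).1 h))
  set lam : Q →* ℂˣ := l.comp (QuotientGroup.mk' S) with hlamdef
  have hlamS : ∀ s ∈ S, lam s = 1 := fun s hs => by
    rw [hlamdef, MonoidHom.comp_apply, QuotientGroup.mk'_apply, (QuotientGroup.eq_one_iff s).2 hs,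
      map_one]
  have hlam3 : ∀ q, lam q ^ 3 = 1 := fun q => by
    rw [hlamdef, MonoidHom.comp_apply, ← map_pow, ← hQS, pow_card_eq_one', map_one]
  have hlamker : ∀ q, lam q = 1 → q ∈ S := fun q hq => mem_of_lam hQS l hl hq
  have hlama : lam a ≠ 1 := hl
  haveI : IsMulCommutative S := ⟨⟨fun x y => Subtype.ext (by
    have hx := hsq _ x.2
    have hy := hsq _ y.2
    have hxy := hsq _ (mul_mem x.2 y.2)
    show (x : Q) * y = y * x
    rw [← inv_eq_of_mul_eq_one_right hxy, mul_inv_rev, inv_eq_of_mul_eq_one_right hx,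
      inv_eq_of_mul_eq_one_right hy])⟩⟩
  letI : CommGroup S := { (inferInstance : Group S) with mul_comm := Std.Commutative.comm }
  obtain ⟨μ, hμ⟩ := CommGroup.exists_apply_ne_one_of_hasEnoughRootsOfUnity S ℂ
    (a := (⟨t, htS⟩ : S)) (fun h => ht1 (congrArg Subtype.val h))
  have hidx : S.index = 3 := by rw [Subgroup.index_eq_card]; exact hQS
  set ε0 : Q →* ℂˣ := MonoidHom.transfer μ with hε0
  set ε : Q →* ℂˣ := ε0 ^ 3 with hεdef
  have hεap : ∀ q, ε q = ε0 q ^ 3 := fun q => rfl
  have hq6 : ∀ q : Q, q ^ 6 = 1 := fun q => by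
    have h3 : q ^ 3 ∈ S := hlamker _ (by rw [map_pow, hlam3])
    rw [show 6 = 3 * 2 from rfl, pow_mul, sq, hsq _ h3]
  have hεsq : ∀ q, ε q ^ 2 = 1 := fun q => by
    rw [hεap, ← pow_mul, ← map_pow, hq6, map_one]
  have hεval : ∀ q, (ε q : ℂ) = 1 ∨ (ε q : ℂ) = -1 := fun q =>
    sq_eq_one_iff.1 (by rw [← Units.val_pow_eq_pow_val, hεsq, Units.val_one])
  have hεt : (ε t : ℂ) = -1 := by
    have h1 : ε0 t = μ ⟨t, htS⟩ ^ 3 := by
      rw [hε0, ← hidx]
      exact Fusion.Transfer.transfer_eq_pow_of_central μ (x := ⟨t, htS⟩)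
        (Subgroup.mem_center_iff.2 fun g => ((htc g).eq).symm)
    have h2 : μ ⟨t, htS⟩ ^ 2 = 1 := by
      rw [← map_pow, show (⟨t, htS⟩ : S) ^ 2 = 1 from Subtype.ext (by simpa [sq] using hsq t htS), map_one]
    have h3 : ((μ ⟨t, htS⟩ : ℂˣ) : ℂ) = -1 := by
      refine (sq_eq_one_iff.1 (by rw [← Units.val_pow_eq_pow_val, h2, Units.val_one])).resolve_left ?_
      exact fun h => hμ (Units.ext h)
    rw [hεap, h1, ← pow_mul, Units.val_pow_eq_pow_val, h3]
    norm_num
  have hεa : ε a = 1 := by rw [hεap, ← map_pow, ← ha3, pow_orderOf_eq_one, map_one]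
  have hlamt : lam t = 1 := hlamS t htS
  set w : ℂ := (lam a : ℂ) with hw
  have hw3 : w ^ 3 = 1 := by rw [hw, ← Units.val_pow_eq_pow_val, hlam3, Units.val_one]
  have hw1 : w ≠ 1 := fun h => hlama (Units.ext h)
  have hwsum : 1 + w + w ^ 2 = 0 := by
    have : (w - 1) * (1 + w + w ^ 2) = 0 := by linear_combination hw3
    exact (mul_eq_zero.1 this).resolve_left (sub_ne_zero.2 hw1)
  have hwc : conj w = w ^ 2 := by
    rw [← Complex.inv_eq_conj (Complex.norm_eq_one_of_pow_eq_one hw3 three_ne_zero)]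
    exact inv_eq_of_mul_eq_one_right (by linear_combination hw3)
  have hw2 : w ^ 2 ≠ 1 := fun e => hw1 (by linear_combination hw3 - w * e)
  have hw21 : w ^ 2 ≠ w := fun e => hw2 (by linear_combination hw3 - w * e)
  -- the bijection with `K × 2 × 3`
  let K := {q : Q // (ε q : ℂ) = 1 ∧ lam q = 1}
  have hK : Nat.card K = 4 := by
    have hsum : Nat.card S = Nat.card (K ⊕ K) := Nat.card_congr
      { toFun := fun s => if h : (ε (s : Q) : ℂ) = 1 then Sum.inl ⟨s, h, hlamS _ s.2⟩
          else Sum.inr ⟨t * s, by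
            rw [map_mul, Units.val_mul, hεt, (hεval _).resolve_left h]; norm_num, by
            rw [map_mul, hlamt, hlamS _ s.2, one_mul]⟩
        invFun := Sum.elim (fun k => ⟨k.1, hlamker _ k.2.2⟩)
          (fun k => ⟨t * k.1, mul_mem htS (hlamker _ k.2.2)⟩)
        left_inv := fun s => by
          dsimp only
          split_ifs
          · rfl
          · exact Subtype.ext (by simp [← mul_assoc, hsq t htS])
        right_inv := by
          rintro (k | k)
          · simp [k.2.1]
          · have : (ε (t * k.1) : ℂ) ≠ 1 := by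
              rw [map_mul, Units.val_mul, hεt, k.2.1]; norm_num
            simp only [Sum.elim_inr, dif_neg this]
            simp [← mul_assoc, hsq t htS]
            rw [hεt, k.2.1]; norm_num }
    rw [hS8, Nat.card_sum] at hsum
    omega
  haveI : Fintype K := Fintype.ofFinite K
  let Ψ : K × Fin 2 × Fin 3 → Q := fun x => x.1.1 * t ^ (x.2.1 : ℕ) * a ^ (x.2.2 : ℕ)
  have hΨε : ∀ x, (ε (Ψ x) : ℂ) = (-1) ^ (x.2.1 : ℕ) := fun x => by
    simp [Ψ, map_mul, map_pow, hεt, x.1.2.1, hεa]
  have hΨl : ∀ x, (lam (Ψ x) : ℂ) = w ^ (x.2.2 : ℕ) := fun x => by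
    simp [Ψ, map_mul, map_pow, hlamt, x.1.2.2, hw]
  have hΨ : Function.Bijective Ψ := by
    rw [Fintype.bijective_iff_injective_and_card]
    refine ⟨fun x y h => ?_, ?_⟩
    · have h1 := hΨε x
      have h2 := hΨl x
      rw [h, hΨε y] at h1
      rw [h, hΨl y] at h2
      obtain ⟨k, e, i⟩ := x
      obtain ⟨k', e', i'⟩ := y
      have he : e = e' := by
        fin_cases e <;> fin_cases e' <;> first | rfl | (norm_num at h1)
      have hl' : i = i' := by
        fin_cases i <;> fin_cases i' <;>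
          first | rfl | (simp [hw1, hw2, hw21, hw21.symm, Ne.symm hw1, Ne.symm hw2] at h2)
      refine Prod.ext (Subtype.ext ?_) (Prod.ext he hl')
      simpa [Ψ, he, hl'] using h
    · rw [← Nat.card_eq_fintype_card, ← Nat.card_eq_fintype_card, Nat.card_prod, Nat.card_prod,
        Nat.card_fin, Nat.card_fin, hK, h24]
  have hsumQ : ∀ (F : Q → ℂ) (c : ℂ) (f : ℂ → ℂ), f 1 = 0 → F t = c →
      (∀ q, (ε q : ℂ) = 1 → F q = 0) → (∀ q, (ε q : ℂ) = -1 → q ≠ t → F q = f (lam q : ℂ)) →
      classInner F (fun _ => 1) = (c + 4 * f w + 4 * f (w ^ 2)) / 24 := by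
    intro F c f hf1 hc h0 hm
    rw [Cfsg.classInner, h24, ← hΨ.sum_comp]
    simp only [map_one, mul_one, Fintype.sum_prod_type, Fin.sum_univ_two, Fin.sum_univ_three]
    have e0 : ∀ k i, F (Ψ (k, 0, i)) = 0 := fun k i => h0 _ (by rw [hΨε]; simp)
    have e1 : ∀ k (i : Fin 3), Ψ (k, 1, i) ≠ t → F (Ψ (k, 1, i)) = f (w ^ (i : ℕ)) := fun k i hne => by
      rw [hm _ (by rw [hΨε]; simp) hne, hΨl]
    have hne : ∀ k (i : Fin 3), i ≠ 0 → Ψ (k, 1, i) ≠ t := fun k i hi h => by
      have h' := hΨl (k, 1, i)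
      rw [h, hlamt] at h'
      fin_cases i
      · exact hi rfl
      · simp at h'; exact hw1 h'.symm
      · simp at h'; exact hw1 (by linear_combination hw3 - w * h'.symm)
    let k1 : K := ⟨1, by simp⟩
    have e10 : ∀ k, F (Ψ (k, 1, 0)) = if k = k1 then c else 0 := fun k => by
      by_cases hk : k = k1
      · subst hk; simp [Ψ, k1, hc]
      · rw [if_neg hk, e1 k 0 ?_]
        · simpa using hf1
        · intro h
          exact hk (Subtype.ext (by simpa [Ψ, k1] using h))
    simp only [e0, e10, e1 _ 1 (hne _ 1 (by decide)), e1 _ 2 (hne _ 2 (by decide)), zero_add,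
      Finset.sum_add_distrib, Finset.sum_ite_eq', Finset.mem_univ, if_true, Finset.sum_const,
      Finset.card_univ, ← Nat.card_eq_fintype_card (α := K), hK, nsmul_eq_mul]
    norm_num
    rw [Finset.sum_eq_single k1 (fun b _ hb => if_neg hb) (fun h => absurd (Finset.mem_univ _) h), if_pos rfl]
    ring
  -- the characters
  have hta : orderOf (t * a) = 6 := by
    have ht2 : orderOf t = 2 := orderOf_eq_prime (by rw [sq]; exact hsq t htS) ht1
    rw [(htc a).orderOf_mul_eq_mul_orderOf_of_coprime (by rw [ht2, ha3]; norm_num), ht2, ha3]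
  set L := Subgroup.zpowers (t * a) with hL
  have hLcard : Nat.card L = 6 := by rw [hL, Nat.card_zpowers, hta]
  have hLel : ∀ q ∈ L, ∃ e : Fin 2, ∃ i : Fin 3, q = t ^ (e : ℕ) * a ^ (i : ℕ) := by
    intro q hq
    obtain ⟨n, rfl⟩ := (Submonoid.mem_powers_iff _ _).1 (mem_powers_iff_mem_zpowers.2 hq)
    refine ⟨⟨n % 2, Nat.mod_lt _ two_pos⟩, ⟨n % 3, Nat.mod_lt _ three_pos⟩, ?_⟩
    show (t * a) ^ n = t ^ (n % 2) * a ^ (n % 3)
    rw [(htc a).mul_pow, pow_mod_orderOf_aux t n (orderOf_eq_prime (by rw [sq]; exact hsq t htS) ht1),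
      pow_mod_orderOf_aux a n ha3]
  let k1 : K := ⟨1, by simp⟩
  have hΨ1 : ∀ (e : Fin 2) (i : Fin 3), Ψ (k1, e, i) = t ^ (e : ℕ) * a ^ (i : ℕ) := fun e i => by
    simp [Ψ, k1]
  -- conjugates of `t a ^ i`
  have hcomm : ∀ (i : Fin 3), i ≠ 0 → ∀ x, Commute (t * a ^ (i : ℕ)) (Ψ x) → x.1 = k1 := by
    rintro i hi ⟨k, e, j⟩ hc
    have h1 : Commute (a ^ (i : ℕ)) (k.1 * t ^ (e : ℕ) * a ^ (j : ℕ)) :=
      (show _ from by simpa [Ψ, inv_mul_cancel_left] using ((htc (Ψ (k, e, j))).inv_left.mul_left hc))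
    have h2 : Commute (a ^ (i : ℕ)) k.1 := by
      have := (h1.mul_right (((Commute.pow_pow_self a i j).inv_right))).mul_right
        (((htc (a ^ (i : ℕ))).symm.pow_right (e : ℕ)).inv_right)
      simpa using this
    have h3 : Commute a k.1 := by
      have hi' : (i : ℕ) = 1 ∨ (i : ℕ) = 2 := by
        fin_cases i
        · exact absurd rfl hi
        · exact Or.inl rfl
        · exact Or.inr rfl
      rcases hi' with e' | e' <;> rw [e'] at h2
      · simpa using h2
      · have h4 := h2.pow_left 2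
        rw [← pow_mul, show 2 * 2 = 3 + 1 from rfl, pow_succ, ← ha3, pow_orderOf_eq_one, one_mul] at h4
        exact h4
    rcases hfix k.1 (hlamker _ k.2.2) h3 with h | h
    · exact Subtype.ext h
    · have h5 := k.2.1
      rw [h, hεt] at h5
      norm_num at h5
  set f : L → ℂ := fun q => 1 - (ε (q : Q) : ℂ) with hf
  set η := Cfsg.indFun L f with hη
  have hfgen : IsGeneralizedCharacter L f :=
    Char.IsGeneralizedCharacter.sub
      (Char.IsCharacter.isGeneralizedCharacter Char.isCharacter_one)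
      (Char.IsCharacter.isGeneralizedCharacter (Char.IsCharacter.restrict (Char.isCharacter_hom ε) L))
  have hεconj : ∀ q x : Q, ε (x⁻¹ * q * x) = ε q := fun q x => by
    rw [map_mul, map_mul, map_inv, mul_comm, ← mul_assoc, mul_inv_cancel, one_mul]
  have hlamconj : ∀ q x : Q, lam (x⁻¹ * q * x) = lam q := fun q x => by
    rw [map_mul, map_mul, map_inv, mul_comm, ← mul_assoc, mul_inv_cancel, one_mul]
  have hη0 : ∀ q, (ε q : ℂ) = 1 → η q = 0 := fun q hq => by
    rw [hη, Char.indFun_def, Finset.sum_eq_zero, mul_zero]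
    intro x _
    by_cases hm : x⁻¹ * q * x ∈ L
    · rw [Char.extendByZero_apply_mem L f hm, hf]
      show (1 : ℂ) - (ε (x⁻¹ * q * x) : ℂ) = 0
      rw [hεconj, hq, sub_self]
    · exact Char.extendByZero_apply_notMem L f hm
  have hηcount : ∀ q, (ε q : ℂ) = -1 →
      η q = (2 * (Finset.univ.filter fun x : Q => x⁻¹ * q * x ∈ L).card : ℂ) / 6 := fun q hq => by
    rw [hη, Char.indFun_def, hLcard, Finset.sum_congr rfl (g := fun x : Q =>
      if x⁻¹ * q * x ∈ L then (2 : ℂ) else 0), ← Finset.sum_filter, Finset.sum_const, nsmul_eq_mul]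
    · push_cast; ring
    intro x _
    split_ifs with hm
    · rw [Char.extendByZero_apply_mem L f hm, hf]
      show (1 : ℂ) - (ε (x⁻¹ * q * x) : ℂ) = 2
      rw [hεconj, hq]; norm_num
    · exact Char.extendByZero_apply_notMem L f hm
  have hLneg : ∀ y ∈ L, (ε y : ℂ) = -1 → ∃ i : Fin 3, y = t * a ^ (i : ℕ) ∧ (lam y : ℂ) = w ^ (i : ℕ) := by
    intro y hy he
    obtain ⟨e, i, rfl⟩ := hLel y hy
    rw [← hΨ1, hΨε] at he
    fin_cases e
    · norm_num at he
    · exact ⟨i, by simp, by rw [← hΨ1, hΨl]⟩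
  have hηt : η t = 8 := by
    rw [hηcount t hεt, Finset.filter_true_of_mem fun x _ => ?_, Finset.card_univ,
      ← Nat.card_eq_fintype_card, h24]
    · norm_num
    · rw [((htc x).symm.inv_left.eq), inv_mul_cancel_right]
      rw [show t = (t * a) ^ 3 by rw [(htc a).mul_pow, ← ha3, pow_orderOf_eq_one, mul_one, ha3, pow_succ, sq,
        hsq t htS, one_mul]]
      exact pow_mem (Subgroup.mem_zpowers _) _
  have hηone : ∀ q, (ε q : ℂ) = -1 → lam q = 1 → q ≠ t → η q = 0 := fun q he hl' hne => by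
    rw [hηcount q he, Finset.card_eq_zero.2 (Finset.filter_eq_empty_iff.2 fun x _ hm => ?_)]
    · simp
    · obtain ⟨i, hy, hly⟩ := hLneg _ hm (by rw [hεconj]; exact he)
      rw [hlamconj, hl', Units.val_one] at hly
      fin_cases i
      · simp only [pow_zero, mul_one] at hy
        refine hne ?_
        calc q = x * (x⁻¹ * q * x) * x⁻¹ := by group
          _ = x * t * x⁻¹ := by rw [hy]
          _ = t := by rw [← (htc x).eq, mul_inv_cancel_right]
      · simp at hly; exact hw1 hly.symm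
      · simp at hly; exact hw2 hly.symm
  have hηtwo : ∀ q, (ε q : ℂ) = -1 → lam q ≠ 1 → η q = 2 := fun q he hl' => by
    obtain ⟨⟨k, e, i⟩, rfl⟩ := hΨ.2 q
    have hi : i ≠ 0 := by
      rintro rfl
      exact hl' (Units.ext (by rw [hΨl]; simp))
    have he1 : e = 1 := by
      rw [hΨε] at he
      fin_cases e
      · norm_num at he
      · rfl
    subst he1
    set y := t * a ^ (i : ℕ)
    have hy : ∀ k' : K, ∃ k'' : K, k'.1 * y * k'.1⁻¹ = Ψ (k'', 1, i) := by
      intro k'
      obtain ⟨⟨k'', e', i'⟩, hk''⟩ := hΨ.2 (k'.1 * y * k'.1⁻¹)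
      have h1 := hΨε (k'', e', i')
      have h2 := hΨl (k'', e', i')
      have e1 := hΨε (k1, 1, i)
      have e2 := hΨl (k1, 1, i)
      rw [hΨ1] at e1 e2
      simp only [Fin.val_one, pow_one] at e1 e2
      rw [hk'', map_mul, map_mul, map_inv, mul_inv_cancel_comm, e1] at h1
      rw [hk'', map_mul, map_mul, map_inv, mul_inv_cancel_comm, e2] at h2
      have he' : e' = 1 := by
        fin_cases e'
        · norm_num at h1
        · rfl
      have hi' : i' = i := by
        fin_cases i <;> fin_cases i' <;>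
          first | rfl | (simp [hw1, hw2, hw21, hw21.symm, Ne.symm hw1, Ne.symm hw2] at h2)
      exact ⟨k'', by rw [← he', ← hi', hk'']⟩
    choose g hg using hy
    have hginj : Function.Injective g := fun k' k'' hkk => by
      have h := (hg k').trans ((congrArg (fun z => Ψ (z, (1 : Fin 2), i)) hkk).trans (hg k'').symm)
      obtain ⟨x, hx⟩ := hΨ.2 (k''.1⁻¹ * k'.1)
      have hc : Commute y (Ψ x) := by
        rw [hx]
        show y * (k''.1⁻¹ * k'.1) = k''.1⁻¹ * k'.1 * y
        calc y * (k''.1⁻¹ * k'.1) = k''.1⁻¹ * (k''.1 * y * k''.1⁻¹) * k'.1 := by group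
          _ = k''.1⁻¹ * (k'.1 * y * k'.1⁻¹) * k'.1 := by rw [h]
          _ = k''.1⁻¹ * k'.1 * y := by group
      have hx1 := hcomm i hi x hc
      have h3 := hΨε x
      have h4 := hΨl x
      rw [hx, map_mul, map_inv, Units.val_mul, Units.val_inv_eq_inv_val, k'.2.1, k''.2.1] at h3
      rw [hx, map_mul, map_inv, k'.2.2, k''.2.2] at h4
      obtain ⟨k0, e0, i0⟩ := x
      have : e0 = 0 := by
        fin_cases e0
        · rfl
        · norm_num at h3
      subst this
      have : i0 = 0 := by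
        fin_cases i0
        · rfl
        · simp at h4; exact absurd h4.symm hw1
        · simp at h4; exact absurd h4.symm hw2
      subst this
      dsimp only at hx1
      subst hx1
      rw [hΨ1] at hx
      simp only [Fin.val_zero, pow_zero, mul_one] at hx
      exact Subtype.ext (inv_mul_eq_one.1 hx.symm).symm
    obtain ⟨k0, hk0⟩ := (Finite.injective_iff_surjective.1 hginj) k
    have hq : Ψ (k, 1, i) = k0.1 * y * k0.1⁻¹ := by rw [hg, hk0]
    rw [hηcount _ he, show (Finset.univ.filter fun x : Q => x⁻¹ * Ψ (k, 1, i) * x ∈ L) =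
      (Finset.univ : Finset (Fin 2 × Fin 3)).image fun z => k0.1 * Ψ (k1, z.1, z.2) from ?_,
      Finset.card_image_of_injective _ ?_]
    · simp
    · intro z z' h
      have := hΨ.1 (mul_left_cancel h)
      simpa [Prod.ext_iff] using this
    ext x
    simp only [Finset.mem_filter, Finset.mem_univ, true_and, Finset.mem_image, Prod.exists]
    refine ⟨fun hm => ?_, ?_⟩
    · obtain ⟨i', hy', hly⟩ := hLneg _ hm (by rw [hεconj]; exact he)
      rw [hlamconj, hΨl] at hly
      have hii : i = i' := by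
        fin_cases i <;> fin_cases i' <;>
          first | rfl | (simp [hw1, hw2, hw21, hw21.symm, Ne.symm hw1, Ne.symm hw2] at hly)
      subst hii
      obtain ⟨z, hz⟩ := hΨ.2 (k0.1⁻¹ * x)
      have hc : Commute y (Ψ z) := by
        show y * Ψ z = Ψ z * y
        rw [hz]
        rw [hq] at hy'
        calc y * (k0.1⁻¹ * x) = k0.1⁻¹ * (k0.1 * y * k0.1⁻¹) * x := by group
          _ = k0.1⁻¹ * x * (x⁻¹ * (k0.1 * y * k0.1⁻¹) * x) := by group
          _ = k0.1⁻¹ * x * y := by rw [hy']
      refine ⟨z.2.1, z.2.2, ?_⟩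
      rw [show (k1, z.2.1, z.2.2) = z from Prod.ext (hcomm i hi z hc).symm rfl, hz, mul_inv_cancel_left]
    · rintro ⟨e', i', rfl⟩
      have hc : Commute y (t ^ (e' : ℕ) * a ^ (i' : ℕ)) :=
        ((htc y).symm.pow_right _).mul_right ((htc _).mul_left (Commute.pow_pow_self a i i'))
      rw [hq, hΨ1]
      rw [show (k0.1 * (t ^ (e' : ℕ) * a ^ (i' : ℕ)))⁻¹ * (k0.1 * y * k0.1⁻¹) *
        (k0.1 * (t ^ (e' : ℕ) * a ^ (i' : ℕ))) = y by
          calc _ = (t ^ (e' : ℕ) * a ^ (i' : ℕ))⁻¹ * (y * (t ^ (e' : ℕ) * a ^ (i' : ℕ))) := by group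
            _ = _ := by rw [hc.eq, inv_mul_cancel_left]]
      refine mul_mem ?_ (pow_mem ?_ _)
      · rw [show t = (t * a) ^ 3 by rw [(htc a).mul_pow, ← ha3, pow_orderOf_eq_one, mul_one, ha3, pow_succ, sq,
          hsq t htS, one_mul]]
        exact pow_mem (Subgroup.mem_zpowers _) _
      · rw [show a = (t * a) ^ 4 by rw [(htc a).mul_pow, show (4 : ℕ) = 3 + 1 from rfl, pow_succ t, pow_succ t, sq,
          hsq t htS, one_mul, hsq t htS, one_mul, pow_succ a, ← ha3, pow_orderOf_eq_one, one_mul]]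
        exact pow_mem (Subgroup.mem_zpowers _) _
  -- `theta`
  set θ : Q → ℂ := fun q => (1 - (ε q : ℂ)) * (1 - (lam q : ℂ)) with hθ
  have hθgen : IsGeneralizedCharacter Q θ := by
    have e : θ = ((fun _ => (1 : ℂ)) - fun q => (ε q : ℂ)) -
        ((fun q => (lam q : ℂ)) - fun q => ((ε * lam) q : ℂ)) := by
      funext q
      simp [hθ, MonoidHom.mul_apply]
      ring
    rw [e]
    exact Char.IsGeneralizedCharacter.sub
      (Char.IsGeneralizedCharacter.sub (Char.IsCharacter.isGeneralizedCharacter Char.isCharacter_one)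
        (Char.IsCharacter.isGeneralizedCharacter (Char.isCharacter_hom ε)))
      (Char.IsGeneralizedCharacter.sub (Char.IsCharacter.isGeneralizedCharacter (Char.isCharacter_hom lam))
        (Char.IsCharacter.isGeneralizedCharacter (Char.isCharacter_hom (ε * lam))))
  have hθ0 : ∀ q, (ε q : ℂ) = 1 → θ q = 0 := fun q h => by simp [hθ, h]
  have hθt : θ t = 0 := by simp [hθ, hlamt]
  have hθm : ∀ q, (ε q : ℂ) = -1 → θ q = 2 * (1 - (lam q : ℂ)) := fun q h => by simp only [hθ, h]; ring
  have hηm : ∀ q, (ε q : ℂ) = -1 → q ≠ t → η q = if (lam q : ℂ) = 1 then 0 else 2 := fun q h hne => by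
    split_ifs with h1
    · exact hηone q h (Units.ext h1) hne
    · exact hηtwo q h fun h2 => h1 (by rw [h2, Units.val_one])
  have hinner : ∀ (F G' : Q → ℂ), classInner F G' = classInner (fun q => F q * conj (G' q)) (fun _ => 1) := by
    intro F G'
    simp [Cfsg.classInner]
  have hwc2 : conj (w ^ 2) = w := by rw [map_pow, hwc]; linear_combination w * hw3
  have hηconj : ∀ q, conj (η q) = η q := fun q => by
    rcases hεval q with h | h
    · rw [hη0 q h, map_zero]
    · by_cases ht : q = t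
      · rw [ht, hηt, Complex.conj_ofNat]
      · rw [hηm q h ht]; split_ifs <;> simp [Complex.conj_ofNat]
  have hsupp : ∀ q, η q ≠ 0 ∨ θ q ≠ 0 → IsPPart 2 q t := by
    intro q hq
    have ht2 : orderOf t = 2 := orderOf_eq_prime (by rw [sq]; exact hsq t htS) ht1
    have he : (ε q : ℂ) = -1 := (hεval q).resolve_left fun h => by
      rcases hq with h' | h'
      · exact h' (hη0 q h)
      · exact h' (hθ0 q h)
    by_cases ht : q = t
    · exact ⟨1, by rw [mul_one, ht], Commute.one_right t, ⟨1, by rw [ht2, pow_one]⟩,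
        by rw [orderOf_one]; norm_num⟩
    have hl' : lam q ≠ 1 := fun h => by
      rcases hq with h' | h'
      · exact h' (hηone q he h ht)
      · exact h' (by rw [hθm q he, h]; simp)
    refine ⟨t * q, by rw [← mul_assoc, hsq t htS, one_mul], htc _, ⟨1, by rw [ht2, pow_one]⟩, ?_⟩
    have hcub : q ^ 3 = t := by
      obtain ⟨⟨k, e, i⟩, hx⟩ := hΨ.2 (q ^ 3)
      have h1 := hΨε (k, e, i)
      have h2 := hΨl (k, e, i)
      rw [hx, map_pow, Units.val_pow_eq_pow_val, he] at h1
      rw [hx, map_pow, hlam3, Units.val_one] at h2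
      have : i = 0 := by
        fin_cases i
        · rfl
        · simp at h2; exact absurd h2.symm hw1
        · simp at h2; exact absurd h2.symm hw2
      subst this
      have : e = 1 := by
        fin_cases e
        · norm_num at h1
        · rfl
      subst this
      obtain ⟨⟨k', e', i'⟩, hx'⟩ := hΨ.2 q
      have hi' : i' ≠ 0 := by
        rintro rfl
        exact hl' (Units.ext (by rw [← hx', hΨl]; simp))
      have hc : Commute (q ^ 3) (Ψ (k', e', i')) := by rw [hx']; exact (Commute.refl q).pow_left 3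
      rw [← hx] at hc ⊢
      have hk : Commute (a ^ (i' : ℕ)) k.1 := by
        have hS : ∀ z : K, z.1 ∈ S := fun z => hlamker _ z.2.2
        have hck : Commute k.1 k'.1 :=
          congrArg Subtype.val (mul_comm (⟨_, hS k⟩ : S) ⟨_, hS k'⟩)
        have h5 : Commute k.1 (k'.1 * t ^ (e' : ℕ) * a ^ (i' : ℕ)) := by
          have h6 : Commute (k.1 * t) (k'.1 * t ^ (e' : ℕ) * a ^ (i' : ℕ)) := by simpa [Ψ] using hc
          simpa [mul_assoc, hsq t htS] using h6.mul_left (htc (k'.1 * t ^ (e' : ℕ) * a ^ (i' : ℕ)))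
        have h7 := (hck.mul_right ((htc k.1).symm.pow_right (e' : ℕ))).inv_right.mul_right h5
        simpa [mul_assoc] using h7.symm
      have hk1 := hcomm i' hi' (k, 0, 0)
        ((htc _).mul_left (by simpa [Ψ] using hk))
      dsimp only at hk1
      rw [hk1, hΨ1]; simp
    intro h2d
    have h3 : (t * q) ^ 3 = 1 := by
      rw [(htc q).mul_pow, hcub, pow_succ, sq, hsq t htS, one_mul, hsq t htS]
    have := h2d.trans (orderOf_dvd_of_pow_eq_one h3)
    norm_num at this
  refine ⟨⟨lam, η, θ, Char.IsGeneralizedCharacter.indFun L hfgen, hθgen, hsupp, fun q hq => ⟨hlam3 q, fun h =>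
    hq (by simp [hθ, h])⟩, hθt, ?_, ?_, ?_, ?_, ?_, ?_, hηconj, ?_⟩⟩
  · rw [hinner, hsumQ _ 64 (fun z => if z = 1 then 0 else 4) (if_pos rfl) (by simp [hηt, Complex.conj_ofNat]; norm_num)
      (fun q h => by simp [hη0 q h]) (fun q h hne => by simp only [hηm q h hne]; split_ifs <;> simp [Complex.conj_ofNat] <;> norm_num),
      if_neg hw1, if_neg hw2]
    norm_num
  · rw [hinner, hsumQ _ 0 (fun z => 2 * (1 - z) * conj (2 * (1 - z))) (by simp) (by simp [hθt])
      (fun q h => by simp [hθ0 q h]) (fun q h _ => by rw [hθm q h])]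
    simp only [map_mul, map_sub, map_one, Complex.conj_ofNat, hwc, hwc2]
    linear_combination ((-4 : ℂ) / 3) * hwsum + (4 / 3 : ℂ) * hw3
  · rw [hinner, hsumQ _ 0 (fun z => (if z = 1 then 0 else 2) * conj (2 * (1 - z))) (by simp)
      (by simp [hθt]) (fun q h => by simp [hη0 q h]) (fun q h hne => by rw [hθm q h, hηm q h hne]),
      if_neg hw1, if_neg hw2]
    simp only [map_mul, map_sub, map_one, Complex.conj_ofNat, hwc, hwc2]
    linear_combination (-(2 : ℂ) / 3) * hwsum
  · rw [hinner, hsumQ _ 0 (fun z => 2 * (1 - z) * (2 * (1 - z))) (by simp) (by simp [hθt])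
      (fun q h => by simp [hθ0 q h]) (fun q h _ => by simp [hθm q h])]
    linear_combination (-(4 : ℂ) / 6) * hwsum + (w / 6 * 4) * hw3 + (0 : ℂ) * hw3
  · rw [hsumQ η 8 (fun z => if z = 1 then 0 else 2) (if_pos rfl) hηt hη0 hηm, if_neg hw1, if_neg hw2]
    norm_num
  · rw [hsumQ θ 0 (fun z => 2 * (1 - z)) (by simp) hθt hθ0 (fun q h _ => hθm q h)]
    linear_combination ((-1 : ℂ) / 3) * hwsum
  · intro q
    rcases hεval q with h | h
    · rw [if_neg (fun ht => by rw [ht, hεt] at h; norm_num at h), hη0 q h, hθ0 q h]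
      simp
    · by_cases ht : q = t
      · rw [if_pos ht, ht, hηt, hθt]; norm_num
      · rw [if_neg ht, hηm q h ht, hθm q h]
        split_ifs with h1
        · simp [h1]
        · obtain ⟨x, rfl⟩ := hΨ.2 q
          rw [hΨl] at h1 ⊢
          obtain ⟨k, e, i⟩ := x
          fin_cases i
          · simp at h1
          · simp only [pow_one, map_mul, map_sub, map_one, Complex.conj_ofNat, hwc]
            linear_combination (2 : ℂ) * hwsum
          · simp only [map_mul, map_sub, map_one, Complex.conj_ofNat, hwc2]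
            linear_combination (2 : ℂ) * hwsum

end CfsgLib.Involution.ElementaryEight
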